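import Mathlib
import Cfsg.Agent.Lib.Helper9.Maj3

set_option autoImplicit false

/-! Sakuma's theorem (Majorana setting): general facts about one axis. -/

namespace Cfsg.Agent.Lib.Helper4.Sak

open Cfsg.Axial Cfsg.Agent.H9Maj

variable {V : Type*} [AddCommGroup V] [Module ℝ V]
  {mul : V →ₗ[ℝ] V →ₗ[ℝ] V} {B : LinearMap.BilinForm ℝ V}

theorem law_mem_plus {c : ℝ} (hc : c ∈ ({1, 0, 1 / 4} : Set ℝ)) {a v : V} (hv : mul a v = c • v) :
    v ∈ eigenSum mul a {1, 0, 1 / 4} :=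
  (le_iSup₂_of_le (f := fun c (_ : c ∈ ({1, 0, 1 / 4} : Set ℝ)) => eigen mul a c) c hc le_rfl)
    ((mem_eigen a v c).2 hv)

/-- Decomposition of an arbitrary vector along the eigenspaces of an axis. -/
theorem decomp4 {μ : V ≃ₗ[ℝ] V} {a : V} (h : IsMajoranaPair mul B μ a) (w : V) :
    ∃ (t : ℝ) (w0 w4 w3 : V), w = t • a + w0 + w4 + w3 ∧ mul a w0 = 0 ∧
      mul a w4 = (1 / 4 : ℝ) • w4 ∧ mul a w3 = (1 / 32 : ℝ) • w3 ∧
      μ w = t • a + w0 + w4 - w3 ∧ μ a = a ∧ μ w0 = w0 ∧ μ w4 = w4 ∧ μ w3 = -w3 := by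
  obtain ⟨-, -, ⟨⟨-, haa, hsum, -⟩, hprim⟩, hmiy1, hmiy2⟩ := h
  have hmem : w ∈ eigenSum mul a majoranaSpectrum := by rw [hsum]; trivial
  unfold eigenSum majoranaSpectrum at hmem
  rw [iSup_insert, iSup_insert, iSup_insert, iSup_singleton] at hmem
  obtain ⟨v₁, hv₁, r₁, hr₁, e₁⟩ := Submodule.mem_sup.1 hmem
  obtain ⟨v₀, hv₀, r₂, hr₂, e₂⟩ := Submodule.mem_sup.1 hr₁
  obtain ⟨v₄, hv₄, v₃, hv₃, e₃⟩ := Submodule.mem_sup.1 hr₂
  have hv₁' : v₁ ∈ Submodule.span ℝ {a} := by rw [← hprim]; exact hv₁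
  obtain ⟨t, rfl⟩ := Submodule.mem_span_singleton.1 hv₁'
  have hv₀' : mul a v₀ = (0 : ℝ) • v₀ := (mem_eigen a v₀ 0).1 hv₀
  have hv₄' : mul a v₄ = (1 / 4 : ℝ) • v₄ := (mem_eigen a v₄ (1 / 4)).1 hv₄
  have hv₃' : mul a v₃ = (1 / 32 : ℝ) • v₃ := (mem_eigen a v₃ (1 / 32)).1 hv₃
  have haa' : mul a a = (1 : ℝ) • a := by rw [one_smul]; exact haa
  have fa : μ a = a := hmiy1 a (law_mem_plus (by simp) haa')
  have f₀ : μ v₀ = v₀ := hmiy1 v₀ (law_mem_plus (by simp) hv₀')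
  have f₄ : μ v₄ = v₄ := hmiy1 v₄ (law_mem_plus (by simp) hv₄')
  have f₃ : μ v₃ = -v₃ := hmiy2 v₃ hv₃
  have hdec : w = t • a + v₀ + v₄ + v₃ := by
    rw [← e₁, ← e₂, ← e₃]; abel
  refine ⟨t, v₀, v₄, v₃, hdec, by rw [hv₀', zero_smul], hv₄', hv₃', ?_, fa, f₀, f₄, f₃⟩
  rw [hdec, map_add, map_add, map_add, map_smul, fa, f₀, f₄, f₃]
  abel

theorem decomp4_coeff (hV : IsMajoranaAmbient mul B) {a : V} (haa : mul a a = a) (hn : B a a = 1)
    {t : ℝ} {w w0 w4 w3 : V} (hdec : w = t • a + w0 + w4 + w3) (h0 : mul a w0 = 0)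
    (h4 : mul a w4 = (1 / 4 : ℝ) • w4) (h3 : mul a w3 = (1 / 32 : ℝ) • w3) : B a w = t := by
  have haa' : mul a a = (1 : ℝ) • a := by rw [one_smul]; exact haa
  have h0' : mul a w0 = (0 : ℝ) • w0 := by rw [h0, zero_smul]
  rw [hdec]
  simp only [map_add, map_smul, smul_eq_mul, hn, orth hV haa' h0' (by norm_num),
    orth hV haa' h4 (by norm_num), orth hV haa' h3 (by norm_num)]
  ring

/-- The Majorana involution is determined by its axis. -/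
theorem mu_unique {μ μ' : V ≃ₗ[ℝ] V} {a : V} (h : IsMajoranaPair mul B μ a)
    (h' : IsMajoranaPair mul B μ' a) : μ = μ' := by
  ext w
  obtain ⟨t, w0, w4, w3, hdec, h0, h4, h3, hμ, -, -, -, -⟩ := decomp4 h w
  obtain ⟨-, -, ⟨⟨-, haa, -, -⟩, -⟩, hmiy1, hmiy2⟩ := h'
  have haa' : mul a a = (1 : ℝ) • a := by rw [one_smul]; exact haa
  have h0' : mul a w0 = (0 : ℝ) • w0 := by rw [h0, zero_smul]
  have fa : μ' a = a := hmiy1 a (law_mem_plus (by simp) haa')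
  have f₀ : μ' w0 = w0 := hmiy1 w0 (law_mem_plus (by simp) h0')
  have f₄ : μ' w4 = w4 := hmiy1 w4 (law_mem_plus (by simp) h4)
  have f₃ : μ' w3 = -w3 := hmiy2 w3 ((mem_eigen a w3 (1 / 32)).2 h3)
  rw [hμ]
  conv_rhs => rw [hdec]
  rw [map_add, map_add, map_add, map_smul, fa, f₀, f₄, f₃]
  abel

theorem mu_mu {μ : V ≃ₗ[ℝ] V} {a : V} (h : IsMajoranaPair mul B μ a) (w : V) : μ (μ w) = w := by
  obtain ⟨t, w0, w4, w3, hdec, -, -, -, hμ, fa, f0, f4, f3⟩ := decomp4 h w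
  rw [hμ, map_sub, map_add, map_add, map_smul, fa, f0, f4, f3]
  conv_rhs => rw [hdec]
  abel

/-- Equality from inner product one (positive definiteness). -/
theorem eq_of_inner_one (hV : IsMajoranaAmbient mul B) {x y : V} (hx : B x x = 1) (hy : B y y = 1)
    (hxy : B x y = 1) : x = y := by
  obtain ⟨-, hsymm, hpos, -, -⟩ := hV
  by_contra hne
  have h0 : x - y ≠ 0 := sub_ne_zero.2 hne
  have := hpos _ h0
  simp only [map_sub, LinearMap.sub_apply] at this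
  rw [hx, hy, hsymm y x, hxy] at this
  norm_num at this

end Cfsg.Agent.Lib.Helper4.Sak
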