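import Mathlib
import Cfsg.Agent.Lib.Helper4.Sak.Sak1

set_option autoImplicit false
set_option linter.unusedSectionVars false

/-! Sakuma's theorem (Majorana setting): symmetric components with respect to an axis, fusion
rules in the form used later, invariance of `sg a w` and the end-point formula. -/

namespace Cfsg.Agent.Lib.Helper4.Sak

open Cfsg.Axial Cfsg.Agent.H9Maj

variable {V : Type*} [AddCommGroup V] [Module ℝ V]
  {mul : V →ₗ[ℝ] V →ₗ[ℝ] V} {B : LinearMap.BilinForm ℝ V}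

/-- `sg x y = x y - (x + y)/32`. -/
noncomputable def sg (mul : V →ₗ[ℝ] V →ₗ[ℝ] V) (x y : V) : V := mul x y - (1 / 32 : ℝ) • (x + y)

theorem sg_comm (hV : IsMajoranaAmbient mul B) (x y : V) : sg mul x y = sg mul y x := by
  unfold sg; rw [hV.1 x y, add_comm x y]

theorem mul_eq_sg (x y : V) : mul x y = sg mul x y + (1 / 32 : ℝ) • (x + y) := by
  unfold sg; abel

/-- the `1/4`-component (of the symmetric part) of `w` -/
noncomputable def vp (mul : V →ₗ[ℝ] V →ₗ[ℝ] V) (B : LinearMap.BilinForm ℝ V) (μ : V ≃ₗ[ℝ] V) (a w : V) : V :=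
  (2 : ℝ) • (mul a w + mul a (μ w)) - (4 * B a w) • a

/-- the `0`-component of `w` -/
noncomputable def up (mul : V →ₗ[ℝ] V →ₗ[ℝ] V) (B : LinearMap.BilinForm ℝ V) (μ : V ≃ₗ[ℝ] V) (a w : V) : V :=
  (1 / 2 : ℝ) • (w + μ w) - (B a w) • a - vp mul B μ a w

section axis

variable (hV : IsMajoranaAmbient mul B) {μ : V ≃ₗ[ℝ] V} {a : V} (h : IsMajoranaPair mul B μ a)
  (hn : B a a = 1)

include hV h hn

theorem comp_eq (w : V) : ∃ (w0 w4 w3 : V), w = (B a w) • a + w0 + w4 + w3 ∧ mul a w0 = 0 ∧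
      mul a w4 = (1 / 4 : ℝ) • w4 ∧ mul a w3 = (1 / 32 : ℝ) • w3 ∧
      vp mul B μ a w = w4 ∧ up mul B μ a w = w0 ∧ μ w = (B a w) • a + w0 + w4 - w3 := by
  obtain ⟨t, w0, w4, w3, hdec, h0, h4, h3, hμ, fa, f0, f4, f3⟩ := decomp4 h w
  have haa : mul a a = a := h.2.2.1.1.2.1
  have ht : B a w = t := decomp4_coeff hV haa hn hdec h0 h4 h3
  have hv : vp mul B μ a w = w4 := by
    unfold vp
    rw [hμ, ht]
    conv_lhs => rw [hdec]
    simp only [map_add, map_sub, map_smul, haa, h0, h4, h3]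
    module
  refine ⟨w0, w4, w3, by rw [ht]; exact hdec, h0, h4, h3, hv, ?_, by rw [ht]; exact hμ⟩
  unfold up
  rw [hv, hμ, ht]
  conv_lhs => rw [hdec]
  module

theorem vp_eigen (w : V) : mul a (vp mul B μ a w) = (1 / 4 : ℝ) • vp mul B μ a w := by
  obtain ⟨w0, w4, w3, -, -, h4, -, hv, -, -⟩ := comp_eq hV h hn w
  rw [hv]; exact h4

theorem up_eigen (w : V) : mul a (up mul B μ a w) = 0 := by
  obtain ⟨w0, w4, w3, -, h0, -, -, -, hu, -⟩ := comp_eq hV h hn w
  rw [hu]; exact h0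

theorem fus00 (w w' : V) : mul a (mul (up mul B μ a w) (up mul B μ a w')) = 0 := by
  have hm0 : (0 : ℝ) ∈ majoranaSpectrum := by simp [majoranaSpectrum]
  have e1 : up mul B μ a w ∈ eigen mul a 0 :=
    (mem_eigen a _ 0).2 (by rw [up_eigen hV h hn, zero_smul])
  have e2 : up mul B μ a w' ∈ eigen mul a 0 :=
    (mem_eigen a _ 0).2 (by rw [up_eigen hV h hn, zero_smul])
  have := h.2.2.1.1.2.2.2 0 hm0 0 hm0 _ e1 _ e2
  rw [law00] at this
  unfold eigenSum at this
  rw [iSup_singleton] at this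
  have := (mem_eigen a _ 0).1 this
  rwa [zero_smul] at this

theorem fus04 (w w' : V) : mul a (mul (up mul B μ a w) (vp mul B μ a w')) =
    (1 / 4 : ℝ) • mul (up mul B μ a w) (vp mul B μ a w') := by
  have hm0 : (0 : ℝ) ∈ majoranaSpectrum := by simp [majoranaSpectrum]
  have hm4 : (1 / 4 : ℝ) ∈ majoranaSpectrum := by simp [majoranaSpectrum]
  have e1 : up mul B μ a w ∈ eigen mul a 0 :=
    (mem_eigen a _ 0).2 (by rw [up_eigen hV h hn, zero_smul])
  have e2 : vp mul B μ a w' ∈ eigen mul a (1 / 4) := (mem_eigen a _ (1 / 4)).2 (vp_eigen hV h hn w')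
  have := h.2.2.1.1.2.2.2 0 hm0 (1 / 4) hm4 _ e1 _ e2
  rw [law04] at this
  unfold eigenSum at this
  rw [iSup_singleton] at this
  exact (mem_eigen a _ (1 / 4)).1 this

theorem fus44 (w w' : V) : mul a (mul (vp mul B μ a w) (vp mul B μ a w')) =
    ((1 / 4 : ℝ) * B (vp mul B μ a w) (vp mul B μ a w')) • a := by
  have hm4 : (1 / 4 : ℝ) ∈ majoranaSpectrum := by simp [majoranaSpectrum]
  have haa : mul a a = a := h.2.2.1.1.2.1
  have hprim := h.2.2.1.2
  have e1 : vp mul B μ a w ∈ eigen mul a (1 / 4) := (mem_eigen a _ (1 / 4)).2 (vp_eigen hV h hn w)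
  have e2 : vp mul B μ a w' ∈ eigen mul a (1 / 4) := (mem_eigen a _ (1 / 4)).2 (vp_eigen hV h hn w')
  have := h.2.2.1.1.2.2.2 (1 / 4) hm4 (1 / 4) hm4 _ e1 _ e2
  rw [law44] at this
  unfold eigenSum at this
  rw [iSup_insert, iSup_singleton] at this
  obtain ⟨x₁, hx₁, x₀, hx₀, e⟩ := Submodule.mem_sup.1 this
  have hx₁' : x₁ ∈ Submodule.span ℝ {a} := by rw [← hprim]; exact hx₁
  obtain ⟨t, rfl⟩ := Submodule.mem_span_singleton.1 hx₁'
  have hx₀' : mul a x₀ = (0 : ℝ) • x₀ := (mem_eigen a x₀ 0).1 hx₀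
  have haa' : mul a a = (1 : ℝ) • a := by rw [one_smul]; exact haa
  have ht : B a (mul (vp mul B μ a w) (vp mul B μ a w')) = t := by
    rw [← e]
    simp only [map_add, map_smul, smul_eq_mul, hn, orth hV haa' hx₀' (by norm_num)]
    ring
  have ht' : B a (mul (vp mul B μ a w) (vp mul B μ a w')) =
      (1 / 4 : ℝ) * B (vp mul B μ a w) (vp mul B μ a w') := by
    rw [hV.2.2.2.1 a _ _, vp_eigen hV h hn w]
    simp only [map_smul, LinearMap.smul_apply, smul_eq_mul]
  rw [← e, map_add, map_smul, haa, hx₀', zero_smul, add_zero, ← ht', ht]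

/-- `sg a w` is fixed by the involution of `a`. -/
theorem sg_inv (w : V) : μ (sg mul a w) = sg mul a w := by
  obtain ⟨t, w0, w4, w3, hdec, h0, h4, h3, hμ, fa, f0, f4, f3⟩ := decomp4 h w
  have haa : mul a a = a := h.2.2.1.1.2.1
  have e : sg mul a w = (t - 1 / 32 - t / 32) • a - (1 / 32 : ℝ) • w0 + (7 / 32 : ℝ) • w4 := by
    unfold sg
    rw [hdec]
    simp only [map_add, map_smul, haa, h0, h4, h3]
    module
  rw [e]
  simp only [map_add, map_sub, map_smul, fa, f0, f4]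

theorem mu_axis : μ a = a := by
  obtain ⟨t, w0, w4, w3, hdec, h0, h4, h3, hμ, fa, f0, f4, f3⟩ := decomp4 h a
  exact fa

/-- the `1/4`-component in terms of `sg a w` -/
theorem vp_eq (w : V) : vp mul B μ a w =
    (4 : ℝ) • sg mul a w + (1 / 8 - 4 * B a w) • a + (1 / 16 : ℝ) • (w + μ w) := by
  have h1 : mul a (μ w) = sg mul a w + (1 / 32 : ℝ) • (a + μ w) := by
    have : mul a (μ w) = μ (mul a w) := by
      rw [h.1, mu_axis hV h hn]
    rw [this, mul_eq_sg a w, map_add, sg_inv hV h hn, map_smul, map_add, mu_axis hV h hn]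
  unfold vp
  rw [h1, mul_eq_sg a w]
  module

/-- End-point formula. -/
theorem endpoint (w : V) : mul a (sg mul a w) = (7 / 32 : ℝ) • sg mul a w +
    (3 / 4 * B a w - 25 / 1024) • a + (7 / 2048 : ℝ) • (w + μ w) := by
  have haa : mul a a = a := h.2.2.1.1.2.1
  have h1 : mul a (μ w) = sg mul a w + (1 / 32 : ℝ) • (a + μ w) := by
    have : mul a (μ w) = μ (mul a w) := by
      rw [h.1, mu_axis hV h hn]
    rw [this, mul_eq_sg a w, map_add, sg_inv hV h hn, map_smul, map_add, mu_axis hV h hn]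
  have h2 := vp_eigen hV h hn w
  rw [vp_eq hV h hn w] at h2
  simp only [map_add, map_smul, haa, h1, mul_eq_sg a w] at h2
  have h3 : (4 : ℝ) • mul a (sg mul a w) = (4 : ℝ) • ((7 / 32 : ℝ) • sg mul a w +
      (3 / 4 * B a w - 25 / 1024) • a + (7 / 2048 : ℝ) • (w + μ w)) := by
    linear_combination (norm := module) h2
  exact smul_right_injective V (by norm_num : (4 : ℝ) ≠ 0) h3

end axis

end Cfsg.Agent.Lib.Helper4.Sak
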