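import Mathlib
import Cfsg.Agent.Lib.Helper4.Sak.Sak2

set_option autoImplicit false
set_option linter.unusedSectionVars false

/-! Sakuma's theorem (Majorana setting): the dihedral system of axes generated by two axes. -/

namespace Cfsg.Agent.Lib.Helper4.Sak

open Cfsg.Axial Cfsg.Agent.H9Maj

variable {V : Type*} [AddCommGroup V] [Module ℝ V]
  {mul : V →ₗ[ℝ] V →ₗ[ℝ] V} {B : LinearMap.BilinForm ℝ V}

/-- A dihedral system: axes `a i` with involutions `τ i`, `τ i (a j) = a (2 i - j)`. -/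
structure DSys (mul : V →ₗ[ℝ] V →ₗ[ℝ] V) (B : LinearMap.BilinForm ℝ V) (a : ℤ → V)
    (τ : ℤ → (V ≃ₗ[ℝ] V)) : Prop where
  amb : IsMajoranaAmbient mul B
  pair : ∀ i, IsMajoranaPair mul B (τ i) (a i)
  nrm : ∀ i, B (a i) (a i) = 1
  refl : ∀ i j, τ i (a j) = a (2 * i - j)

namespace DSys

variable {a : ℤ → V} {τ : ℤ → (V ≃ₗ[ℝ] V)}

theorem shift (h : DSys mul B a τ) (k : ℤ) :
    DSys mul B (fun i => a (i + k)) (fun i => τ (i + k)) where
  amb := h.amb
  pair := fun i => h.pair (i + k)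
  nrm := fun i => h.nrm (i + k)
  refl := fun i j => by
    show τ (i + k) (a (j + k)) = a (2 * i - j + k)
    rw [h.refl]; congr 1; ring

theorem neg (h : DSys mul B a τ) : DSys mul B (fun i => a (-i)) (fun i => τ (-i)) where
  amb := h.amb
  pair := fun i => h.pair (-i)
  nrm := fun i => h.nrm (-i)
  refl := fun i j => by
    show τ (-i) (a (-j)) = a (-(2 * i - j))
    rw [h.refl]; congr 1; ring

theorem aa (h : DSys mul B a τ) (i : ℤ) : mul (a i) (a i) = a i := (h.pair i).2.2.1.1.2.1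

theorem comm (h : DSys mul B a τ) (x y : V) : mul x y = mul y x := h.amb.1 x y

theorem symm (h : DSys mul B a τ) (x y : V) : B x y = B y x := h.amb.2.1 x y

theorem assoc (h : DSys mul B a τ) (x y z : V) : B x (mul y z) = B (mul x y) z := h.amb.2.2.2.1 x y z

theorem form_refl (h : DSys mul B a τ) (m i j : ℤ) :
    B (a i) (a j) = B (a (2 * m - i)) (a (2 * m - j)) := by
  rw [← h.refl m i, ← h.refl m j, (h.pair m).2.1]

theorem tau_mul (h : DSys mul B a τ) (m : ℤ) (x y : V) : τ m (mul x y) = mul (τ m x) (τ m y) :=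
  (h.pair m).1 x y

theorem tau_sg (h : DSys mul B a τ) (m : ℤ) (x y : V) :
    τ m (sg mul x y) = sg mul (τ m x) (τ m y) := by
  unfold sg
  rw [map_sub, map_smul, map_add, h.tau_mul]

/-- `sg (a i) (a (i+d))` depends only on `i` modulo `d`. -/
theorem sg_step (h : DSys mul B a τ) (i d : ℤ) :
    sg mul (a i) (a (i + d)) = sg mul (a (i + d)) (a (i + d + d)) := by
  have h1 : τ (i + d) (sg mul (a (i + d)) (a i)) = sg mul (a (i + d)) (a i) :=
    sg_inv h.amb (h.pair (i + d)) (h.nrm (i + d)) (a i)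
  rw [h.tau_sg, h.refl, h.refl] at h1
  rw [sg_comm h.amb (a i) (a (i + d)), ← h1]
  congr 2 <;> ring

theorem sg_inv_left (h : DSys mul B a τ) (i : ℤ) (w : V) :
    τ i (sg mul (a i) w) = sg mul (a i) w :=
  sg_inv h.amb (h.pair i) (h.nrm i) w

theorem sg_inv_right (h : DSys mul B a τ) (i : ℤ) (w : V) :
    τ i (sg mul w (a i)) = sg mul w (a i) := by
  rw [sg_comm h.amb w (a i)]; exact h.sg_inv_left i w

end DSys

end Cfsg.Agent.Lib.Helper4.Sak
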