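import Mathlib
import Cfsg.Agent.Lib.Helper4.Sak.Sak3

set_option autoImplicit false
set_option linter.unusedSectionVars false

/-! Sakuma's theorem (Majorana setting): basic multiplication table of a dihedral system. -/

namespace Cfsg.Agent.Lib.Helper4.Sak

open Cfsg.Axial Cfsg.Agent.H9Maj

variable {V : Type*} [AddCommGroup V] [Module ℝ V]
  {mul : V →ₗ[ℝ] V →ₗ[ℝ] V} {B : LinearMap.BilinForm ℝ V}
  {a : ℤ → V} {τ : ℤ → (V ≃ₗ[ℝ] V)}

namespace DSys

/-- `σ₁` -/
noncomputable def s (_h : DSys mul B a τ) : V := sg mul (a 0) (a 1)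
/-- `σ₂` (even) -/
noncomputable def p (_h : DSys mul B a τ) : V := sg mul (a 0) (a 2)
/-- `σ₂` (odd) -/
noncomputable def q (_h : DSys mul B a τ) : V := sg mul (a (-1)) (a 1)
/-- `λ₁` -/
noncomputable def L (_h : DSys mul B a τ) : ℝ := B (a 0) (a 1)
/-- `λ₂` (even) -/
noncomputable def M (_h : DSys mul B a τ) : ℝ := B (a 0) (a 2)
/-- `λ₂` (odd) -/
noncomputable def N (_h : DSys mul B a τ) : ℝ := B (a (-1)) (a 1)

theorem per_one {α : Type*} (f : ℤ → α) (hf : ∀ i, f i = f (i + 1)) (i : ℤ) : f i = f 0 := by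
  induction i using Int.induction_on with
  | zero => rfl
  | succ n ih => rw [← hf]; exact ih
  | pred n ih =>
    rw [← ih, hf (-(n : ℤ) - 1)]
    congr 1; ring

theorem per_two {α : Type*} (f : ℤ → α) (hf : ∀ i, f i = f (i + 2)) (k : ℤ) :
    f (2 * k) = f 0 ∧ f (2 * k + 1) = f 1 := by
  have h0 := per_one (fun k => f (2 * k)) (fun i => by
    show f (2 * i) = f (2 * (i + 1)); rw [hf (2 * i)]; congr 1; ring) k
  have h1 := per_one (fun k => f (2 * k + 1)) (fun i => by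
    show f (2 * i + 1) = f (2 * (i + 1) + 1); rw [hf (2 * i + 1)]; congr 1; ring) k
  exact ⟨by simpa using h0, by simpa using h1⟩

variable (h : DSys mul B a τ)

theorem sg1 (i j : ℤ) (hij : j = i + 1) : sg mul (a i) (a j) = h.s := by
  subst hij
  exact per_one (fun i => sg mul (a i) (a (i + 1))) (fun i => h.sg_step i 1) i

theorem sg1' (i j : ℤ) (hij : i = j + 1) : sg mul (a i) (a j) = h.s := by
  rw [sg_comm h.amb]; exact h.sg1 j i hij

theorem sg2e (i j : ℤ) (hij : j = i + 2) (hi : i % 2 = 0) : sg mul (a i) (a j) = h.p := by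
  subst hij
  obtain ⟨k, rfl⟩ : ∃ k, i = 2 * k := ⟨i / 2, by omega⟩
  exact (per_two (fun i => sg mul (a i) (a (i + 2))) (fun i => h.sg_step i 2) k).1

theorem sg2o (i j : ℤ) (hij : j = i + 2) (hi : i % 2 = 1) : sg mul (a i) (a j) = h.q := by
  subst hij
  obtain ⟨k, rfl⟩ : ∃ k, i = 2 * k + 1 := ⟨i / 2, by omega⟩
  have h1 : sg mul (a (2 * k + 1)) (a (2 * k + 1 + 2)) = sg mul (a 1) (a (1 + 2)) :=
    (per_two (fun i => sg mul (a i) (a (i + 2))) (fun i => h.sg_step i 2) k).2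
  have h2 : sg mul (a (2 * (-1) + 1)) (a (2 * (-1) + 1 + 2)) = sg mul (a 1) (a (1 + 2)) :=
    (per_two (fun i => sg mul (a i) (a (i + 2))) (fun i => h.sg_step i 2) (-1)).2
  rw [h1, ← h2]
  unfold q
  norm_num

include h in
theorem form_step (i d : ℤ) : B (a i) (a (i + d)) = B (a (i + d)) (a (i + d + d)) := by
  have e1 : 2 * (i + d) - i = i + d + d := by ring
  have e2 : 2 * (i + d) - (i + d) = i + d := by ring
  rw [h.form_refl (i + d) i (i + d), h.symm, e1, e2]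

theorem form1 (i j : ℤ) (hij : j = i + 1) : B (a i) (a j) = h.L := by
  subst hij
  exact per_one (fun i => B (a i) (a (i + 1))) (fun i => h.form_step i 1) i

theorem form1' (i j : ℤ) (hij : i = j + 1) : B (a i) (a j) = h.L := by
  rw [h.symm]; exact h.form1 j i hij

theorem form2e (i j : ℤ) (hij : j = i + 2) (hi : i % 2 = 0) : B (a i) (a j) = h.M := by
  subst hij
  obtain ⟨k, rfl⟩ : ∃ k, i = 2 * k := ⟨i / 2, by omega⟩
  exact (per_two (fun i => B (a i) (a (i + 2))) (fun i => h.form_step i 2) k).1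

theorem form2o (i j : ℤ) (hij : j = i + 2) (hi : i % 2 = 1) : B (a i) (a j) = h.N := by
  subst hij
  obtain ⟨k, rfl⟩ : ∃ k, i = 2 * k + 1 := ⟨i / 2, by omega⟩
  have h1 : B (a (2 * k + 1)) (a (2 * k + 1 + 2)) = B (a 1) (a (1 + 2)) :=
    (per_two (fun i => B (a i) (a (i + 2))) (fun i => h.form_step i 2) k).2
  have h2 : B (a (2 * (-1) + 1)) (a (2 * (-1) + 1 + 2)) = B (a 1) (a (1 + 2)) :=
    (per_two (fun i => B (a i) (a (i + 2))) (fun i => h.form_step i 2) (-1)).2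
  rw [h1, ← h2]
  unfold N
  norm_num

/-- products of neighbouring axes -/
theorem mul1 (i j : ℤ) (hij : j = i + 1) :
    mul (a i) (a j) = h.s + (1 / 32 : ℝ) • (a i + a j) := by
  rw [mul_eq_sg, h.sg1 i j hij]

theorem mul1' (i j : ℤ) (hij : i = j + 1) :
    mul (a i) (a j) = h.s + (1 / 32 : ℝ) • (a i + a j) := by
  rw [mul_eq_sg, h.sg1' i j hij]

theorem mul2e (i j : ℤ) (hij : j = i + 2) (hi : i % 2 = 0) :
    mul (a i) (a j) = h.p + (1 / 32 : ℝ) • (a i + a j) := by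
  rw [mul_eq_sg, h.sg2e i j hij hi]

theorem mul2e' (i j : ℤ) (hij : i = j + 2) (hj : j % 2 = 0) :
    mul (a i) (a j) = h.p + (1 / 32 : ℝ) • (a i + a j) := by
  rw [h.comm, h.mul2e j i hij hj, add_comm (a j)]

theorem mul2o (i j : ℤ) (hij : j = i + 2) (hi : i % 2 = 1) :
    mul (a i) (a j) = h.q + (1 / 32 : ℝ) • (a i + a j) := by
  rw [mul_eq_sg, h.sg2o i j hij hi]

theorem mul2o' (i j : ℤ) (hij : i = j + 2) (hj : j % 2 = 1) :
    mul (a i) (a j) = h.q + (1 / 32 : ℝ) • (a i + a j) := by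
  rw [h.comm, h.mul2o j i hij hj, add_comm (a j)]

/-- end-point formulas -/
theorem ep1 (i j k : ℤ) (hj : j = i + 1) (hk : k = i - 1) :
    mul (a i) h.s = (7 / 32 : ℝ) • h.s + (3 / 4 * h.L - 25 / 1024) • a i +
      (7 / 2048 : ℝ) • (a j + a k) := by
  have := endpoint h.amb (h.pair i) (h.nrm i) (a j)
  rw [h.sg1 i j hj, h.form1 i j hj, h.refl] at this
  rw [this, hk, hj]
  congr 4; ring

theorem ep2e (i j k : ℤ) (hj : j = i + 2) (hk : k = i - 2) (hi : i % 2 = 0) :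
    mul (a i) h.p = (7 / 32 : ℝ) • h.p + (3 / 4 * h.M - 25 / 1024) • a i +
      (7 / 2048 : ℝ) • (a j + a k) := by
  have := endpoint h.amb (h.pair i) (h.nrm i) (a j)
  rw [h.sg2e i j hj hi, h.form2e i j hj hi, h.refl] at this
  rw [this, hk, hj]
  congr 4; ring

theorem ep2o (i j k : ℤ) (hj : j = i + 2) (hk : k = i - 2) (hi : i % 2 = 1) :
    mul (a i) h.q = (7 / 32 : ℝ) • h.q + (3 / 4 * h.N - 25 / 1024) • a i +
      (7 / 2048 : ℝ) • (a j + a k) := by
  have := endpoint h.amb (h.pair i) (h.nrm i) (a j)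
  rw [h.sg2o i j hj hi, h.form2o i j hj hi, h.refl] at this
  rw [this, hk, hj]
  congr 4; ring

/-- invariance of `s`, `p`, `q` -/
theorem tau_s (m : ℤ) : τ m h.s = h.s := by
  have := h.sg_inv_left m (a (m + 1))
  rwa [h.sg1 m (m + 1) rfl] at this

theorem tau0_p : τ 0 h.p = h.p := h.sg_inv_left 0 (a 2)

theorem tau0_q : τ 0 h.q = h.q := by
  unfold q
  rw [h.tau_sg, h.refl, h.refl, sg_comm h.amb]
  norm_num

end DSys

end Cfsg.Agent.Lib.Helper4.Sak
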