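import Mathlib
import Cfsg.Agent.Lib.Helper4.Sak.Sak5

set_option autoImplicit false
set_option linter.unusedSectionVars false

/-! Sakuma's theorem (Majorana setting): multiplication table with literal indices (generated). -/

namespace Cfsg.Agent.Lib.Helper4.Sak

open Cfsg.Axial Cfsg.Agent.H9Maj

variable {V : Type*} [AddCommGroup V] [Module ℝ V]
  {mul : V →ₗ[ℝ] V →ₗ[ℝ] V} {B : LinearMap.BilinForm ℝ V}
  {a : ℤ → V} {τ : ℤ → (V ≃ₗ[ℝ] V)}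

namespace DSys

variable (h : DSys mul B a τ)

include h in
theorem t_am4_am4 : mul (a (-4)) (a (-4)) = a (-4) := h.aa _

theorem t_am4_am3 : mul (a (-4)) (a (-3)) = h.s + (1 / 32 : ℝ) • (a (-4) + a (-3)) :=
  h.mul1 _ _ (by norm_num)

theorem t_am4_am2 : mul (a (-4)) (a (-2)) = h.p + (1 / 32 : ℝ) • (a (-4) + a (-2)) :=
  h.mul2e _ _ (by norm_num) (by norm_num)

theorem t_am3_am4 : mul (a (-3)) (a (-4)) = h.s + (1 / 32 : ℝ) • (a (-3) + a (-4)) :=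
  h.mul1' _ _ (by norm_num)

include h in
theorem t_am3_am3 : mul (a (-3)) (a (-3)) = a (-3) := h.aa _

theorem t_am3_am2 : mul (a (-3)) (a (-2)) = h.s + (1 / 32 : ℝ) • (a (-3) + a (-2)) :=
  h.mul1 _ _ (by norm_num)

theorem t_am3_am1 : mul (a (-3)) (a (-1)) = h.q + (1 / 32 : ℝ) • (a (-3) + a (-1)) :=
  h.mul2o _ _ (by norm_num) (by norm_num)

theorem t_am2_am4 : mul (a (-2)) (a (-4)) = h.p + (1 / 32 : ℝ) • (a (-2) + a (-4)) :=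
  h.mul2e' _ _ (by norm_num) (by norm_num)

theorem t_am2_am3 : mul (a (-2)) (a (-3)) = h.s + (1 / 32 : ℝ) • (a (-2) + a (-3)) :=
  h.mul1' _ _ (by norm_num)

include h in
theorem t_am2_am2 : mul (a (-2)) (a (-2)) = a (-2) := h.aa _

theorem t_am2_am1 : mul (a (-2)) (a (-1)) = h.s + (1 / 32 : ℝ) • (a (-2) + a (-1)) :=
  h.mul1 _ _ (by norm_num)

theorem t_am2_a0 : mul (a (-2)) (a 0) = h.p + (1 / 32 : ℝ) • (a (-2) + a 0) :=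
  h.mul2e _ _ (by norm_num) (by norm_num)

theorem t_am1_am3 : mul (a (-1)) (a (-3)) = h.q + (1 / 32 : ℝ) • (a (-1) + a (-3)) :=
  h.mul2o' _ _ (by norm_num) (by norm_num)

theorem t_am1_am2 : mul (a (-1)) (a (-2)) = h.s + (1 / 32 : ℝ) • (a (-1) + a (-2)) :=
  h.mul1' _ _ (by norm_num)

include h in
theorem t_am1_am1 : mul (a (-1)) (a (-1)) = a (-1) := h.aa _

theorem t_am1_a0 : mul (a (-1)) (a 0) = h.s + (1 / 32 : ℝ) • (a (-1) + a 0) :=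
  h.mul1 _ _ (by norm_num)

theorem t_am1_a1 : mul (a (-1)) (a 1) = h.q + (1 / 32 : ℝ) • (a (-1) + a 1) :=
  h.mul2o _ _ (by norm_num) (by norm_num)

theorem t_a0_am2 : mul (a 0) (a (-2)) = h.p + (1 / 32 : ℝ) • (a 0 + a (-2)) :=
  h.mul2e' _ _ (by norm_num) (by norm_num)

theorem t_a0_am1 : mul (a 0) (a (-1)) = h.s + (1 / 32 : ℝ) • (a 0 + a (-1)) :=
  h.mul1' _ _ (by norm_num)

include h in
theorem t_a0_a0 : mul (a 0) (a 0) = a 0 := h.aa _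

theorem t_a0_a1 : mul (a 0) (a 1) = h.s + (1 / 32 : ℝ) • (a 0 + a 1) :=
  h.mul1 _ _ (by norm_num)

theorem t_a0_a2 : mul (a 0) (a 2) = h.p + (1 / 32 : ℝ) • (a 0 + a 2) :=
  h.mul2e _ _ (by norm_num) (by norm_num)

theorem t_a1_am1 : mul (a 1) (a (-1)) = h.q + (1 / 32 : ℝ) • (a 1 + a (-1)) :=
  h.mul2o' _ _ (by norm_num) (by norm_num)

theorem t_a1_a0 : mul (a 1) (a 0) = h.s + (1 / 32 : ℝ) • (a 1 + a 0) :=
  h.mul1' _ _ (by norm_num)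

include h in
theorem t_a1_a1 : mul (a 1) (a 1) = a 1 := h.aa _

theorem t_a1_a2 : mul (a 1) (a 2) = h.s + (1 / 32 : ℝ) • (a 1 + a 2) :=
  h.mul1 _ _ (by norm_num)

theorem t_a1_a3 : mul (a 1) (a 3) = h.q + (1 / 32 : ℝ) • (a 1 + a 3) :=
  h.mul2o _ _ (by norm_num) (by norm_num)

theorem t_a2_a0 : mul (a 2) (a 0) = h.p + (1 / 32 : ℝ) • (a 2 + a 0) :=
  h.mul2e' _ _ (by norm_num) (by norm_num)

theorem t_a2_a1 : mul (a 2) (a 1) = h.s + (1 / 32 : ℝ) • (a 2 + a 1) :=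
  h.mul1' _ _ (by norm_num)

include h in
theorem t_a2_a2 : mul (a 2) (a 2) = a 2 := h.aa _

theorem t_a2_a3 : mul (a 2) (a 3) = h.s + (1 / 32 : ℝ) • (a 2 + a 3) :=
  h.mul1 _ _ (by norm_num)

theorem t_a2_a4 : mul (a 2) (a 4) = h.p + (1 / 32 : ℝ) • (a 2 + a 4) :=
  h.mul2e _ _ (by norm_num) (by norm_num)

theorem t_a3_a1 : mul (a 3) (a 1) = h.q + (1 / 32 : ℝ) • (a 3 + a 1) :=
  h.mul2o' _ _ (by norm_num) (by norm_num)

theorem t_a3_a2 : mul (a 3) (a 2) = h.s + (1 / 32 : ℝ) • (a 3 + a 2) :=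
  h.mul1' _ _ (by norm_num)

include h in
theorem t_a3_a3 : mul (a 3) (a 3) = a 3 := h.aa _

theorem t_a3_a4 : mul (a 3) (a 4) = h.s + (1 / 32 : ℝ) • (a 3 + a 4) :=
  h.mul1 _ _ (by norm_num)

theorem t_a4_a2 : mul (a 4) (a 2) = h.p + (1 / 32 : ℝ) • (a 4 + a 2) :=
  h.mul2e' _ _ (by norm_num) (by norm_num)

theorem t_a4_a3 : mul (a 4) (a 3) = h.s + (1 / 32 : ℝ) • (a 4 + a 3) :=
  h.mul1' _ _ (by norm_num)

include h in
theorem t_a4_a4 : mul (a 4) (a 4) = a 4 := h.aa _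

theorem t_am3_s : mul (a (-3)) h.s = (7 / 32 : ℝ) • h.s + (3 / 4 * h.L - 25 / 1024) • a (-3) +
    (7 / 2048 : ℝ) • (a (-2) + a (-4)) := h.ep1 _ _ _ (by norm_num) (by norm_num)

theorem t_s_am3 : mul h.s (a (-3)) = (7 / 32 : ℝ) • h.s + (3 / 4 * h.L - 25 / 1024) • a (-3) +
    (7 / 2048 : ℝ) • (a (-2) + a (-4)) := by rw [h.comm]; exact h.t_am3_s

theorem t_am2_s : mul (a (-2)) h.s = (7 / 32 : ℝ) • h.s + (3 / 4 * h.L - 25 / 1024) • a (-2) +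
    (7 / 2048 : ℝ) • (a (-1) + a (-3)) := h.ep1 _ _ _ (by norm_num) (by norm_num)

theorem t_s_am2 : mul h.s (a (-2)) = (7 / 32 : ℝ) • h.s + (3 / 4 * h.L - 25 / 1024) • a (-2) +
    (7 / 2048 : ℝ) • (a (-1) + a (-3)) := by rw [h.comm]; exact h.t_am2_s

theorem t_am1_s : mul (a (-1)) h.s = (7 / 32 : ℝ) • h.s + (3 / 4 * h.L - 25 / 1024) • a (-1) +
    (7 / 2048 : ℝ) • (a 0 + a (-2)) := h.ep1 _ _ _ (by norm_num) (by norm_num)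

theorem t_s_am1 : mul h.s (a (-1)) = (7 / 32 : ℝ) • h.s + (3 / 4 * h.L - 25 / 1024) • a (-1) +
    (7 / 2048 : ℝ) • (a 0 + a (-2)) := by rw [h.comm]; exact h.t_am1_s

theorem t_a0_s : mul (a 0) h.s = (7 / 32 : ℝ) • h.s + (3 / 4 * h.L - 25 / 1024) • a 0 +
    (7 / 2048 : ℝ) • (a 1 + a (-1)) := h.ep1 _ _ _ (by norm_num) (by norm_num)

theorem t_s_a0 : mul h.s (a 0) = (7 / 32 : ℝ) • h.s + (3 / 4 * h.L - 25 / 1024) • a 0 +
    (7 / 2048 : ℝ) • (a 1 + a (-1)) := by rw [h.comm]; exact h.t_a0_s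

theorem t_a1_s : mul (a 1) h.s = (7 / 32 : ℝ) • h.s + (3 / 4 * h.L - 25 / 1024) • a 1 +
    (7 / 2048 : ℝ) • (a 2 + a 0) := h.ep1 _ _ _ (by norm_num) (by norm_num)

theorem t_s_a1 : mul h.s (a 1) = (7 / 32 : ℝ) • h.s + (3 / 4 * h.L - 25 / 1024) • a 1 +
    (7 / 2048 : ℝ) • (a 2 + a 0) := by rw [h.comm]; exact h.t_a1_s

theorem t_a2_s : mul (a 2) h.s = (7 / 32 : ℝ) • h.s + (3 / 4 * h.L - 25 / 1024) • a 2 +
    (7 / 2048 : ℝ) • (a 3 + a 1) := h.ep1 _ _ _ (by norm_num) (by norm_num)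

theorem t_s_a2 : mul h.s (a 2) = (7 / 32 : ℝ) • h.s + (3 / 4 * h.L - 25 / 1024) • a 2 +
    (7 / 2048 : ℝ) • (a 3 + a 1) := by rw [h.comm]; exact h.t_a2_s

theorem t_a3_s : mul (a 3) h.s = (7 / 32 : ℝ) • h.s + (3 / 4 * h.L - 25 / 1024) • a 3 +
    (7 / 2048 : ℝ) • (a 4 + a 2) := h.ep1 _ _ _ (by norm_num) (by norm_num)

theorem t_s_a3 : mul h.s (a 3) = (7 / 32 : ℝ) • h.s + (3 / 4 * h.L - 25 / 1024) • a 3 +
    (7 / 2048 : ℝ) • (a 4 + a 2) := by rw [h.comm]; exact h.t_a3_s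

theorem t_am2_p : mul (a (-2)) h.p = (7 / 32 : ℝ) • h.p + (3 / 4 * h.M - 25 / 1024) • a (-2) +
    (7 / 2048 : ℝ) • (a 0 + a (-4)) := h.ep2e _ _ _ (by norm_num) (by norm_num) (by norm_num)

theorem t_p_am2 : mul h.p (a (-2)) = (7 / 32 : ℝ) • h.p + (3 / 4 * h.M - 25 / 1024) • a (-2) +
    (7 / 2048 : ℝ) • (a 0 + a (-4)) := by rw [h.comm]; exact h.t_am2_p

theorem t_am1_q : mul (a (-1)) h.q = (7 / 32 : ℝ) • h.q + (3 / 4 * h.N - 25 / 1024) • a (-1) +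
    (7 / 2048 : ℝ) • (a 1 + a (-3)) := h.ep2o _ _ _ (by norm_num) (by norm_num) (by norm_num)

theorem t_q_am1 : mul h.q (a (-1)) = (7 / 32 : ℝ) • h.q + (3 / 4 * h.N - 25 / 1024) • a (-1) +
    (7 / 2048 : ℝ) • (a 1 + a (-3)) := by rw [h.comm]; exact h.t_am1_q

theorem t_a0_p : mul (a 0) h.p = (7 / 32 : ℝ) • h.p + (3 / 4 * h.M - 25 / 1024) • a 0 +
    (7 / 2048 : ℝ) • (a 2 + a (-2)) := h.ep2e _ _ _ (by norm_num) (by norm_num) (by norm_num)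

theorem t_p_a0 : mul h.p (a 0) = (7 / 32 : ℝ) • h.p + (3 / 4 * h.M - 25 / 1024) • a 0 +
    (7 / 2048 : ℝ) • (a 2 + a (-2)) := by rw [h.comm]; exact h.t_a0_p

theorem t_a1_q : mul (a 1) h.q = (7 / 32 : ℝ) • h.q + (3 / 4 * h.N - 25 / 1024) • a 1 +
    (7 / 2048 : ℝ) • (a 3 + a (-1)) := h.ep2o _ _ _ (by norm_num) (by norm_num) (by norm_num)

theorem t_q_a1 : mul h.q (a 1) = (7 / 32 : ℝ) • h.q + (3 / 4 * h.N - 25 / 1024) • a 1 +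
    (7 / 2048 : ℝ) • (a 3 + a (-1)) := by rw [h.comm]; exact h.t_a1_q

theorem t_a2_p : mul (a 2) h.p = (7 / 32 : ℝ) • h.p + (3 / 4 * h.M - 25 / 1024) • a 2 +
    (7 / 2048 : ℝ) • (a 4 + a 0) := h.ep2e _ _ _ (by norm_num) (by norm_num) (by norm_num)

theorem t_p_a2 : mul h.p (a 2) = (7 / 32 : ℝ) • h.p + (3 / 4 * h.M - 25 / 1024) • a 2 +
    (7 / 2048 : ℝ) • (a 4 + a 0) := by rw [h.comm]; exact h.t_a2_p


end DSys

end Cfsg.Agent.Lib.Helper4.Sak
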