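import Mathlib
import Cfsg.Agent.Lib.Helper4.Sak.Sak6

set_option autoImplicit false
set_option linter.unusedSectionVars false
set_option linter.unusedSimpArgs false
set_option maxHeartbeats 1600000

/-! Sakuma's theorem (Majorana setting): stage A, the products `a 0 * q` and `s * s`. -/

namespace Cfsg.Agent.Lib.Helper4.Sak

open Cfsg.Axial Cfsg.Agent.H9Maj

variable {V : Type*} [AddCommGroup V] [Module ℝ V]
  {mul : V →ₗ[ℝ] V →ₗ[ℝ] V} {B : LinearMap.BilinForm ℝ V}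
  {a : ℤ → V} {τ : ℤ → (V ≃ₗ[ℝ] V)}

namespace DSys

variable (h : DSys mul B a τ)

include h in
theorem refl' (i j k : ℤ) (hk : k = 2 * i - j) : τ i (a j) = a k := by
  rw [hk]; exact h.refl i j

/-- Gram values -/
theorem gas (i : ℤ) : B (a i) h.s = 31 / 32 * h.L - 1 / 32 := by
  rw [← h.sg1 i (i + 1) rfl]
  unfold sg
  rw [map_sub, map_smul, map_add, h.assoc, h.aa, h.nrm, h.form1 i (i + 1) rfl]
  simp only [smul_eq_mul]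
  ring

theorem gsa (i : ℤ) : B h.s (a i) = 31 / 32 * h.L - 1 / 32 := by
  rw [h.symm]; exact h.gas i

theorem gss : B h.s h.s = -3 / 2048 + 65 / 512 * h.L + 7 / 2048 * h.N + 3 / 4 * h.L ^ 2 := by
  have e : B h.s h.s = B h.s (sg mul (a 0) (a 1)) := rfl
  rw [e]
  unfold sg
  rw [map_sub, map_smul, map_add, h.assoc, h.t_s_a0]
  simp only [map_add, map_smul, LinearMap.add_apply, LinearMap.smul_apply, smul_eq_mul, h.gsa,
    h.nrm, h.form1' 1 0 (by norm_num), h.form2o (-1) 1 (by norm_num) (by norm_num),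
    h.form1 0 1 (by norm_num)]
  ring

theorem vA : vp mul B (τ 0) (a 0) (a 1) =
    (1 / 16 : ℝ) • a (-1) + (1 / 8 - 4 * h.L) • a 0 + (1 / 16 : ℝ) • a 1 + (4 : ℝ) • h.s := by
  rw [vp_eq h.amb (h.pair 0) (h.nrm 0) (a 1), h.refl' 0 1 (-1) (by norm_num), h.sg1 0 1 rfl]
  have : B (a 0) (a 1) = h.L := rfl
  rw [this]
  module

theorem uA : up mul B (τ 0) (a 0) (a 1) =
    (7 / 16 : ℝ) • a (-1) + (-1 / 8 + 3 * h.L) • a 0 + (7 / 16 : ℝ) • a 1 + (-4 : ℝ) • h.s := by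
  unfold up
  rw [h.vA, h.refl' 0 1 (-1) (by norm_num)]
  have : B (a 0) (a 1) = h.L := rfl
  rw [this]
  module

theorem kvv : B ((1 / 16 : ℝ) • a (-1) + (1 / 8 - 4 * h.L) • a 0 + (1 / 16 : ℝ) • a 1 + (4 : ℝ) • h.s)
    ((1 / 16 : ℝ) • a (-1) + (1 / 8 - 4 * h.L) • a 0 + (1 / 16 : ℝ) • a 1 + (4 : ℝ) • h.s) =
    -1 / 16 + 4 * h.L + 1 / 16 * h.N - 4 * h.L ^ 2 := by
  simp only [map_add, map_smul, LinearMap.add_apply, LinearMap.smul_apply, smul_eq_mul, h.gsa,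
    h.gas, h.gss, h.nrm, h.form1' 1 0 (by norm_num), h.form2o (-1) 1 (by norm_num) (by norm_num),
    h.form1 0 1 (by norm_num), h.form1 (-1) 0 (by norm_num), h.form1' 0 (-1) (by norm_num),
    h.form2o (-1) 1 (by norm_num) (by norm_num), h.symm (a 1) (a (-1))]
  ring

/-- the three fusion identities, expanded -/
theorem stageA_eqs :
    mul (a 0) h.q = (7/6144 : ℝ) • a (-2) + (-19/3072 + 1/6*h.L) • a (-1) + (-127/3072 + 5/3*h.L - 1/24*h.N - 32/3*h.L^2) • a 0 + (-19/3072 + 1/6*h.L) • a 1 + (7/6144 : ℝ) • a 2 + (-19/48 + 32/3*h.L) • h.s + (7/96 : ℝ) • h.p ∧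
    mul h.s h.s = (49/196608 : ℝ) • a (-2) + (-245/196608 + 49/768*h.L) • a (-1) + (-7/98304 - 7/384*h.L + 7/1536*h.N + 7/6*h.L^2) • a 0 + (-245/196608 + 49/768*h.L) • a 1 + (49/196608 : ℝ) • a 2 + (-13/1536 - 5/12*h.L) • h.s + (-7/1536 : ℝ) • h.p + (7/2048 : ℝ) • h.q ∧
    h.N = h.M := by
  have f00 := fus00 h.amb (h.pair 0) (h.nrm 0) (a 1) (a 1)
  have f04 := fus04 h.amb (h.pair 0) (h.nrm 0) (a 1) (a 1)
  have f44 := fus44 h.amb (h.pair 0) (h.nrm 0) (a 1) (a 1)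
  rw [h.uA] at f00 f04
  rw [h.vA] at f04 f44
  rw [h.kvv] at f44
  simp only [map_add, map_sub, map_smul, map_neg, LinearMap.add_apply, LinearMap.sub_apply,
    LinearMap.smul_apply, LinearMap.neg_apply, h.t_am4_am4, h.t_am4_am3, h.t_am4_am2, h.t_am3_am4, h.t_am3_am3, h.t_am3_am2, h.t_am3_am1, h.t_am2_am4, h.t_am2_am3, h.t_am2_am2, h.t_am2_am1, h.t_am2_a0, h.t_am1_am3, h.t_am1_am2, h.t_am1_am1, h.t_am1_a0, h.t_am1_a1, h.t_a0_am2, h.t_a0_am1, h.t_a0_a0, h.t_a0_a1, h.t_a0_a2, h.t_a1_am1, h.t_a1_a0, h.t_a1_a1, h.t_a1_a2, h.t_a1_a3, h.t_a2_a0, h.t_a2_a1, h.t_a2_a2, h.t_a2_a3, h.t_a2_a4, h.t_a3_a1, h.t_a3_a2, h.t_a3_a3, h.t_a3_a4, h.t_a4_a2, h.t_a4_a3, h.t_a4_a4, h.t_am3_s, h.t_s_am3, h.t_am2_s, h.t_s_am2, h.t_am1_s, h.t_s_am1, h.t_a0_s, h.t_s_a0, h.t_a1_s, h.t_s_a1, h.t_a2_s, h.t_s_a2, h.t_a3_s, h.t_s_a3, h.t_am2_p, h.t_p_am2, h.t_am1_q, h.t_q_am1,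 h.t_a0_p, h.t_p_a0, h.t_a1_q, h.t_q_a1, h.t_a2_p, h.t_p_a2, smul_add, smul_smul] at f00 f04 f44
  have hZ : mul (a 0) h.q = (7/6144 : ℝ) • a (-2) + (-19/3072 + 1/6*h.L) • a (-1) + (-127/3072 + 5/3*h.L - 1/24*h.N - 32/3*h.L^2) • a 0 + (-19/3072 + 1/6*h.L) • a 1 + (7/6144 : ℝ) • a 2 + (-19/48 + 32/3*h.L) • h.s + (7/96 : ℝ) • h.p := by
    linear_combination (norm := module) (8 / 3 : ℝ) • f00 - (8 / 3 : ℝ) • f44
  have hX : mul h.s h.s = (49/196608 : ℝ) • a (-2) + (-245/196608 + 49/768*h.L) • a (-1) + (-7/98304 - 7/384*h.L + 7/1536*h.N + 7/6*h.L^2) • a 0 + (-245/196608 + 49/768*h.L) • a 1 + (49/196608 : ℝ) • a 2 + (-13/1536 - 5/12*h.L) • h.s + (-7/1536 : ℝ) • h.p + (7/2048 : ℝ) • h.q := by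
    linear_combination (norm := module) (-1 / 24 : ℝ) • f00 + (1 / 4 : ℝ) • f04 + (7 / 24 : ℝ) • f44
  refine ⟨hZ, hX, ?_⟩
  rw [hX] at f00
  simp only [map_add, map_sub, map_smul, map_neg, LinearMap.add_apply, LinearMap.sub_apply,
    LinearMap.smul_apply, LinearMap.neg_apply, h.t_am4_am4, h.t_am4_am3, h.t_am4_am2, h.t_am3_am4, h.t_am3_am3, h.t_am3_am2, h.t_am3_am1, h.t_am2_am4, h.t_am2_am3, h.t_am2_am2, h.t_am2_am1, h.t_am2_a0, h.t_am1_am3, h.t_am1_am2, h.t_am1_am1, h.t_am1_a0, h.t_am1_a1, h.t_a0_am2, h.t_a0_am1, h.t_a0_a0, h.t_a0_a1, h.t_a0_a2, h.t_a1_am1, h.t_a1_a0, h.t_a1_a1, h.t_a1_a2, h.t_a1_a3, h.t_a2_a0, h.t_a2_a1, h.t_a2_a2, h.t_a2_a3, h.t_a2_a4, h.t_a3_a1, h.t_a3_a2, h.t_a3_a3, h.t_a3_a4, h.t_a4_a2, h.t_a4_a3, h.t_a4_a4, h.t_am3_s, h.t_s_am3, h.t_am2_s, h.t_s_am2, h.t_am1_s, h.t_s_am1, h.t_a0_s, h.t_s_a0, h.t_a1_s, h.t_s_a1,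 h.t_a2_s, h.t_s_a2, h.t_a3_s, h.t_s_a3, h.t_am2_p, h.t_p_am2, h.t_am1_q, h.t_q_am1, h.t_a0_p, h.t_p_a0, h.t_a1_q, h.t_q_a1, h.t_a2_p, h.t_p_a2, hZ, smul_add, smul_smul] at f00
  have hv : ((7 / 128 : ℝ) * (h.N - h.M)) • a 0 = 0 := by
    linear_combination (norm := module) f00
  have h2 := congrArg (B (a 0)) hv
  rw [map_smul, h.nrm, map_zero, smul_eq_mul, mul_one] at h2
  linarith

end DSys

end Cfsg.Agent.Lib.Helper4.Sak
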