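import Mathlib
import Cfsg.Agent.Lib.Helper4.Sak.Sak7

set_option autoImplicit false
set_option linter.unusedSectionVars false
set_option linter.unusedSimpArgs false
set_option maxHeartbeats 1600000

/-! Sakuma's theorem (Majorana setting): shifting the base point; the relation for `a 3`. -/

namespace Cfsg.Agent.Lib.Helper4.Sak

open Cfsg.Axial Cfsg.Agent.H9Maj

variable {V : Type*} [AddCommGroup V] [Module ℝ V]
  {mul : V →ₗ[ℝ] V →ₗ[ℝ] V} {B : LinearMap.BilinForm ℝ V}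
  {a : ℤ → V} {τ : ℤ → (V ≃ₗ[ℝ] V)}

namespace DSys

variable (h : DSys mul B a τ)

theorem MN : h.N = h.M := h.stageA_eqs.2.2

theorem Z_eq : mul (a 0) h.q = (7/6144 : ℝ) • a (-2) + (-19/3072 + 1/6*h.L) • a (-1) + (-127/3072 - 1/24*h.M + 5/3*h.L - 32/3*h.L^2) • a 0 + (-19/3072 + 1/6*h.L) • a 1 + (7/6144 : ℝ) • a 2 + (-19/48 + 32/3*h.L) • h.s + (7/96 : ℝ) • h.p := by
  rw [h.stageA_eqs.1, h.MN]; module

theorem X_eq : mul h.s h.s = (49/196608 : ℝ) • a (-2) + (-245/196608 + 49/768*h.L) • a (-1) + (-7/98304 + 7/1536*h.M - 7/384*h.L + 7/6*h.L^2) • a 0 + (-245/196608 + 49/768*h.L) • a 1 + (49/196608 : ℝ) • a 2 + (-13/1536 - 5/12*h.L) • h.s + (-7/1536 : ℝ) • h.p + (7/2048 : ℝ) • h.q := by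
  rw [h.stageA_eqs.2.1, h.MN]; module

/-! shifting -/
theorem shift_s (k : ℤ) : (h.shift k).s = h.s := h.sg1 (0 + k) (1 + k) (by ring)

theorem shift_L (k : ℤ) : (h.shift k).L = h.L := h.form1 (0 + k) (1 + k) (by ring)

theorem shift_p_even (k : ℤ) (hk : k % 2 = 0) : (h.shift k).p = h.p :=
  h.sg2e (0 + k) (2 + k) (by ring) (by omega)

theorem shift_p_odd (k : ℤ) (hk : k % 2 = 1) : (h.shift k).p = h.q :=
  h.sg2o (0 + k) (2 + k) (by ring) (by omega)

theorem shift_q_even (k : ℤ) (hk : k % 2 = 0) : (h.shift k).q = h.q :=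
  h.sg2o (-1 + k) (1 + k) (by ring) (by omega)

theorem shift_q_odd (k : ℤ) (hk : k % 2 = 1) : (h.shift k).q = h.p :=
  h.sg2e (-1 + k) (1 + k) (by ring) (by omega)

theorem shift_M (k : ℤ) : (h.shift k).M = h.M := by
  rcases Int.emod_two_eq_zero_or_one k with hk | hk
  · exact h.form2e (0 + k) (2 + k) (by ring) (by omega)
  · rw [← h.MN]; exact h.form2o (0 + k) (2 + k) (by ring) (by omega)

theorem neg_s : h.neg.s = h.s := by
  show sg mul (a (-0)) (a (-1)) = h.s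
  exact h.sg1' _ _ (by norm_num)

theorem neg_L : h.neg.L = h.L := by
  show B (a (-0)) (a (-1)) = h.L
  exact h.form1' _ _ (by norm_num)

theorem neg_p : h.neg.p = h.p := by
  show sg mul (a (-0)) (a (-2)) = h.p
  rw [sg_comm h.amb]
  exact h.sg2e _ _ (by norm_num) (by norm_num)

theorem neg_q : h.neg.q = h.q := by
  show sg mul (a (- -1)) (a (-1)) = h.q
  rw [sg_comm h.amb]
  exact h.sg2o _ _ (by norm_num) (by norm_num)

theorem neg_M : h.neg.M = h.M := by
  show B (a (-0)) (a (-2)) = h.M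
  rw [h.symm]
  exact h.form2e _ _ (by norm_num) (by norm_num)

/-- the basic linear relation -/
theorem a3_eq : a 3 = (1 : ℝ) • a (-2) + (-6 + 256*h.L) • a (-1) + (33/7 + 128/7*h.M - 2304/7*h.L + 32768/7*h.L^2) • a 0 + (-33/7 - 128/7*h.M + 2304/7*h.L - 32768/7*h.L^2) • a 1 + (6 - 256*h.L) • a 2 + (-32 : ℝ) • h.p + (32 : ℝ) • h.q := by
  have h0 := h.X_eq
  have h1 := (h.shift 1).X_eq
  rw [h.shift_s, h.shift_L, h.shift_M, h.shift_p_odd 1 (by norm_num),
    h.shift_q_odd 1 (by norm_num)] at h1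
  simp only [Int.reduceAdd, Int.reduceNeg] at h1
  rw [h0] at h1
  linear_combination (norm := module) (-196608 / 49 : ℝ) • h1

end DSys

end Cfsg.Agent.Lib.Helper4.Sak
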