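import Mathlib
import Cfsg.Agent.Lib.Helper4.Sak.Sak8

set_option autoImplicit false
set_option linter.unusedSectionVars false
set_option linter.unusedSimpArgs false
set_option maxHeartbeats 1600000

/-! Sakuma's theorem (Majorana setting): further products (`a (±1) * p`, `a (-1) * a 2`). -/

namespace Cfsg.Agent.Lib.Helper4.Sak

open Cfsg.Axial Cfsg.Agent.H9Maj

variable {V : Type*} [AddCommGroup V] [Module ℝ V]
  {mul : V →ₗ[ℝ] V →ₗ[ℝ] V} {B : LinearMap.BilinForm ℝ V}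
  {a : ℤ → V} {τ : ℤ → (V ≃ₗ[ℝ] V)}

namespace DSys

variable (h : DSys mul B a τ)

theorem am3_eq : a (-3) = (6 - 256*h.L) • a (-2) + (-33/7 - 128/7*h.M + 2304/7*h.L - 32768/7*h.L^2) • a (-1) + (33/7 + 128/7*h.M - 2304/7*h.L + 32768/7*h.L^2) • a 0 + (-6 + 256*h.L) • a 1 + (1 : ℝ) • a 2 + (-32 : ℝ) • h.p + (32 : ℝ) • h.q := by
  have h1 := h.neg.a3_eq
  rw [h.neg_L, h.neg_M, h.neg_p, h.neg_q] at h1
  simp only [Int.reduceNeg, neg_neg, neg_zero] at h1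
  rw [h1]; module

/-- `a 2` in terms of `a (-3), …, a 1` -/
theorem a2_back : a 2 = (1 : ℝ) • a (-3) + (-6 + 256*h.L) • a (-2) + (33/7 + 128/7*h.M - 2304/7*h.L + 32768/7*h.L^2) • a (-1) + (-33/7 - 128/7*h.M + 2304/7*h.L - 32768/7*h.L^2) • a 0 + (6 - 256*h.L) • a 1 + (32 : ℝ) • h.p + (-32 : ℝ) • h.q := by
  have h1 := (h.shift (-1)).a3_eq
  rw [h.shift_L, h.shift_M, h.shift_p_odd (-1) (by norm_num), h.shift_q_odd (-1) (by norm_num)] at h1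
  simp only [Int.reduceAdd, Int.reduceNeg] at h1
  rw [h1]; module

theorem t_a1_p : mul (a 1) h.p = (7/6144 : ℝ) • a (-1) + (-19/3072 + 1/6*h.L) • a 0 + (-127/3072 - 1/24*h.M + 5/3*h.L - 32/3*h.L^2) • a 1 + (-19/3072 + 1/6*h.L) • a 2 + (7/6144 : ℝ) • a 3 + (-19/48 + 32/3*h.L) • h.s + (7/96 : ℝ) • h.q := by
  have h1 := (h.shift 1).Z_eq
  rw [h.shift_s, h.shift_L, h.shift_M, h.shift_p_odd 1 (by norm_num), h.shift_q_odd 1 (by norm_num)] at h1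
  simp only [Int.reduceAdd, Int.reduceNeg] at h1
  exact h1

theorem t_am1_p : mul (a (-1)) h.p = (7/6144 : ℝ) • a (-3) + (-19/3072 + 1/6*h.L) • a (-2) + (-127/3072 - 1/24*h.M + 5/3*h.L - 32/3*h.L^2) • a (-1) + (-19/3072 + 1/6*h.L) • a 0 + (7/6144 : ℝ) • a 1 + (-19/48 + 32/3*h.L) • h.s + (7/96 : ℝ) • h.q := by
  have h1 := (h.shift (-1)).Z_eq
  rw [h.shift_s, h.shift_L, h.shift_M, h.shift_p_odd (-1) (by norm_num), h.shift_q_odd (-1) (by norm_num)] at h1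
  simp only [Int.reduceAdd, Int.reduceNeg] at h1
  exact h1

theorem t_p_a1 : mul h.p (a 1) = (7/6144 : ℝ) • a (-1) + (-19/3072 + 1/6*h.L) • a 0 + (-127/3072 - 1/24*h.M + 5/3*h.L - 32/3*h.L^2) • a 1 + (-19/3072 + 1/6*h.L) • a 2 + (7/6144 : ℝ) • a 3 + (-19/48 + 32/3*h.L) • h.s + (7/96 : ℝ) • h.q := by
  rw [h.comm]; exact h.t_a1_p

theorem t_p_am1 : mul h.p (a (-1)) = (7/6144 : ℝ) • a (-3) + (-19/3072 + 1/6*h.L) • a (-2) + (-127/3072 - 1/24*h.M + 5/3*h.L - 32/3*h.L^2) • a (-1) + (-19/3072 + 1/6*h.L) • a 0 + (7/6144 : ℝ) • a 1 + (-19/48 + 32/3*h.L) • h.s + (7/96 : ℝ) • h.q := by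
  rw [h.comm]; exact h.t_am1_p

theorem t_am1_a2 : mul (a (-1)) (a 2) = (-61/96 + 24*h.L) • a (-2) + (1429/336 - 48/7*h.M - 5864/21*h.L + 30720/7*h.L^2) • a (-1) + (-13/24 - 4/3*h.M + 88/3*h.L - 1024/3*h.L^2) • a 0 + (35/96 - 56/3*h.L) • a 1 + (-1/24 : ℝ) • a 2 + (-491/21 - 128/7*h.M + 19456/21*h.L - 32768/7*h.L^2) • h.s + (4/3 : ℝ) • h.p + (1 - 256*h.L) • h.q := by
  have e : mul (a (-1)) (a 2) = mul (a (-1)) ((1 : ℝ) • a (-3) + (-6 + 256*h.L) • a (-2) + (33/7 + 128/7*h.M - 2304/7*h.L + 32768/7*h.L^2) • a (-1) + (-33/7 - 128/7*h.M + 2304/7*h.L - 32768/7*h.L^2) • a 0 + (6 - 256*h.L) • a 1 + (32 : ℝ) • h.p + (-32 : ℝ) • h.q) := by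
    rw [← h.a2_back]
  rw [e]
  simp only [map_add, map_sub, map_smul, map_neg, LinearMap.add_apply, LinearMap.sub_apply,
    LinearMap.smul_apply, LinearMap.neg_apply, h.t_am4_am4, h.t_am4_am3, h.t_am4_am2, h.t_am3_am4, h.t_am3_am3, h.t_am3_am2, h.t_am3_am1, h.t_am2_am4, h.t_am2_am3, h.t_am2_am2, h.t_am2_am1, h.t_am2_a0, h.t_am1_am3, h.t_am1_am2, h.t_am1_am1, h.t_am1_a0, h.t_am1_a1, h.t_a0_am2, h.t_a0_am1, h.t_a0_a0, h.t_a0_a1, h.t_a0_a2, h.t_a1_am1, h.t_a1_a0, h.t_a1_a1, h.t_a1_a2, h.t_a1_a3, h.t_a2_a0, h.t_a2_a1, h.t_a2_a2, h.t_a2_a3, h.t_a2_a4, h.t_a3_a1, h.t_a3_a2, h.t_a3_a3, h.t_a3_a4, h.t_a4_a2, h.t_a4_a3, h.t_a4_a4, h.t_am3_s, h.t_s_am3, h.t_am2_s, h.t_s_am2, h.t_am1_s, h.t_s_am1, h.t_a0_s, h.t_s_a0, h.t_a1_s, h.t_s_a1, h.t_a2_s, h.t_s_a2, h.t_a3_s, h.t_s_a3, h.t_am2_p, h.t_p_am2, h.t_am1_q, h.t_q_am1, h.t_a0_p, h.t_p_a0,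 h.t_a1_q, h.t_q_a1, h.t_a2_p, h.t_p_a2, h.t_am1_p, h.MN]
  rw [h.am3_eq]
  module

end DSys

end Cfsg.Agent.Lib.Helper4.Sak
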