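import Mathlib
import Cfsg.Agent.Lib.Helper4.Sak.Sak9

set_option autoImplicit false
set_option linter.unusedSectionVars false
set_option linter.unusedSimpArgs false
set_option maxHeartbeats 1600000

/-! Sakuma's theorem (Majorana setting): Gram values and the inner products `(a 0, a n)`. -/

namespace Cfsg.Agent.Lib.Helper4.Sak

open Cfsg.Axial Cfsg.Agent.H9Maj

variable {V : Type*} [AddCommGroup V] [Module ℝ V]
  {mul : V →ₗ[ℝ] V →ₗ[ℝ] V} {B : LinearMap.BilinForm ℝ V}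
  {a : ℤ → V} {τ : ℤ → (V ≃ₗ[ℝ] V)}

namespace DSys

noncomputable def L3 (_h : DSys mul B a τ) : ℝ := B (a 0) (a 3)
noncomputable def E4 (_h : DSys mul B a τ) : ℝ := B (a 0) (a 4)
noncomputable def L5 (_h : DSys mul B a τ) : ℝ := B (a 0) (a 5)
noncomputable def E6 (_h : DSys mul B a τ) : ℝ := B (a 0) (a 6)

variable (h : DSys mul B a τ)

theorem t_a1_am2 : mul (a 1) (a (-2)) = (-1/24 : ℝ) • a (-2) + (35/96 - 56/3*h.L) • a (-1) + (-13/24 - 4/3*h.M + 88/3*h.L - 1024/3*h.L^2) • a 0 + (1429/336 - 48/7*h.M - 5864/21*h.L + 30720/7*h.L^2) • a 1 + (-61/96 + 24*h.L) • a 2 + (-491/21 - 128/7*h.M + 19456/21*h.L - 32768/7*h.L^2) • h.s + (4/3 : ℝ) • h.p + (1 - 256*h.L) • h.q := by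
  have h1 := h.neg.t_am1_a2
  rw [h.neg_L, h.neg_M, h.neg_p, h.neg_q, h.neg_s] at h1
  simp only [Int.reduceNeg, neg_neg, neg_zero] at h1
  rw [h1]; module

theorem t_am2_a1 : mul (a (-2)) (a 1) = (-1/24 : ℝ) • a (-2) + (35/96 - 56/3*h.L) • a (-1) + (-13/24 - 4/3*h.M + 88/3*h.L - 1024/3*h.L^2) • a 0 + (1429/336 - 48/7*h.M - 5864/21*h.L + 30720/7*h.L^2) • a 1 + (-61/96 + 24*h.L) • a 2 + (-491/21 - 128/7*h.M + 19456/21*h.L - 32768/7*h.L^2) • h.s + (4/3 : ℝ) • h.p + (1 - 256*h.L) • h.q := by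
  rw [h.comm]; exact h.t_a1_am2

theorem t_a2_am1 : mul (a 2) (a (-1)) = (-61/96 + 24*h.L) • a (-2) + (1429/336 - 48/7*h.M - 5864/21*h.L + 30720/7*h.L^2) • a (-1) + (-13/24 - 4/3*h.M + 88/3*h.L - 1024/3*h.L^2) • a 0 + (35/96 - 56/3*h.L) • a 1 + (-1/24 : ℝ) • a 2 + (-491/21 - 128/7*h.M + 19456/21*h.L - 32768/7*h.L^2) • h.s + (4/3 : ℝ) • h.p + (1 - 256*h.L) • h.q := by
  rw [h.comm]; exact h.t_am1_a2

/-! Gram values -/
theorem gap_even (i : ℤ) (hi : i % 2 = 0) : B (a i) h.p = 31 / 32 * h.M - 1 / 32 := by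
  rw [← h.sg2e i (i + 2) rfl hi]
  unfold sg
  rw [map_sub, map_smul, map_add, h.assoc, h.aa, h.nrm, h.form2e i (i + 2) rfl hi]
  simp only [smul_eq_mul]
  ring

theorem gaq_odd (i : ℤ) (hi : i % 2 = 1) : B (a i) h.q = 31 / 32 * h.M - 1 / 32 := by
  rw [← h.sg2o i (i + 2) rfl hi]
  unfold sg
  rw [map_sub, map_smul, map_add, h.assoc, h.aa, h.nrm, h.form2o i (i + 2) rfl hi, h.MN]
  simp only [smul_eq_mul]
  ring

theorem gap_odd (i : ℤ) (hi : i % 2 = 1) : B (a i) h.p = 15 / 16 * h.L + 1 / 32 * h.M - 1 / 32 := by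
  rw [← h.sg2e (i - 1) (i + 1) (by ring) (by omega)]
  unfold sg
  rw [map_sub, map_smul, map_add, h.assoc, h.mul1' i (i - 1) (by ring)]
  simp only [map_add, map_smul, LinearMap.add_apply, LinearMap.smul_apply, smul_eq_mul, h.gsa,
    h.form1' i (i - 1) (by ring), h.form1 i (i + 1) (by ring),
    h.form2e (i - 1) (i + 1) (by ring) (by omega)]
  ring

theorem gaq_even (i : ℤ) (hi : i % 2 = 0) : B (a i) h.q = 15 / 16 * h.L + 1 / 32 * h.M - 1 / 32 := by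
  rw [← h.sg2o (i - 1) (i + 1) (by ring) (by omega)]
  unfold sg
  rw [map_sub, map_smul, map_add, h.assoc, h.mul1' i (i - 1) (by ring)]
  simp only [map_add, map_smul, LinearMap.add_apply, LinearMap.smul_apply, smul_eq_mul, h.gsa,
    h.form1' i (i - 1) (by ring), h.form1 i (i + 1) (by ring),
    h.form2o (i - 1) (i + 1) (by ring) (by omega), h.MN]
  ring

theorem L3_eq : h.L3 = 33/7 - 33/7*h.M - 2169/7*h.L - 1920/7*h.M*h.L + 36864/7*h.L^2 - 32768/7*h.L^3 := by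
  unfold L3
  rw [h.a3_eq]
  simp only [map_add, map_smul, smul_eq_mul, h.nrm, h.form1 0 1 (by norm_num),
    h.form1' 0 (-1) (by norm_num), h.form2e 0 2 (by norm_num) (by norm_num),
    h.symm (a 0) (a (-2)), h.form2e (-2) 0 (by norm_num) (by norm_num),
    h.gap_even 0 (by norm_num), h.gaq_even 0 (by norm_num)]
  ring

end DSys

end Cfsg.Agent.Lib.Helper4.Sak
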