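import Mathlib
import Cfsg.Agent.Lib.Helper4.Sak.Sak10

set_option autoImplicit false
set_option linter.unusedSectionVars false
set_option linter.unusedSimpArgs false
set_option maxHeartbeats 3200000

/-! Sakuma's theorem (Majorana setting): the cross fusion rules for `a 1`, `a 2` and the
resulting linear relation. -/

namespace Cfsg.Agent.Lib.Helper4.Sak

open Cfsg.Axial Cfsg.Agent.H9Maj

variable {V : Type*} [AddCommGroup V] [Module ℝ V]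
  {mul : V →ₗ[ℝ] V →ₗ[ℝ] V} {B : LinearMap.BilinForm ℝ V}
  {a : ℤ → V} {τ : ℤ → (V ≃ₗ[ℝ] V)}

namespace DSys

variable (h : DSys mul B a τ)

theorem form3a : B (a (-1)) (a 2) = h.L3 := by
  rw [h.form_refl 1 (-1) 2, h.symm]; norm_num; rfl

theorem form3b : B (a 1) (a (-2)) = h.L3 := by
  rw [h.form_refl 0 1 (-2)]; norm_num; exact h.form3a

theorem form3a' : B (a 2) (a (-1)) = h.L3 := by rw [h.symm]; exact h.form3a

theorem form3b' : B (a (-2)) (a 1) = h.L3 := by rw [h.symm]; exact h.form3b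

theorem form4 : B (a (-2)) (a 2) = h.E4 := by
  rw [h.form_refl 1 (-2) 2, h.symm]; norm_num; rfl

theorem form4' : B (a 2) (a (-2)) = h.E4 := by rw [h.symm]; exact h.form4

theorem gsp : B h.s h.p = -5/1024 - 25/1024*h.M + 317/2048*h.L + 7/2048*h.L3 + 3/4*h.M*h.L := by
  have e : B h.s h.p = B h.s (sg mul (a 0) (a 2)) := rfl
  rw [e]
  unfold sg
  rw [map_sub, map_smul, map_add, h.assoc, h.t_s_a0]
  simp only [map_add, map_smul, LinearMap.add_apply, LinearMap.smul_apply, smul_eq_mul, h.gsa,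
    h.form2e 0 2 (by norm_num) (by norm_num), h.form1 1 2 (by norm_num), h.form3a]
  ring

theorem gps : B h.p h.s = -5/1024 - 25/1024*h.M + 317/2048*h.L + 7/2048*h.L3 + 3/4*h.M*h.L := by
  rw [h.symm]; exact h.gsp

theorem v2A : vp mul B (τ 0) (a 0) (a 2) =
    (1 / 16 : ℝ) • a (-2) + (1 / 8 - 4 * h.M) • a 0 + (1 / 16 : ℝ) • a 2 + (4 : ℝ) • h.p := by
  rw [vp_eq h.amb (h.pair 0) (h.nrm 0) (a 2), h.refl' 0 2 (-2) (by norm_num)]
  have e1 : B (a 0) (a 2) = h.M := rfl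
  have e2 : sg mul (a 0) (a 2) = h.p := rfl
  rw [e1, e2]
  module

theorem u2A : up mul B (τ 0) (a 0) (a 2) =
    (7 / 16 : ℝ) • a (-2) + (-1 / 8 + 3 * h.M) • a 0 + (7 / 16 : ℝ) • a 2 + (-4 : ℝ) • h.p := by
  unfold up
  rw [h.v2A, h.refl' 0 2 (-2) (by norm_num)]
  have : B (a 0) (a 2) = h.M := rfl
  rw [this]
  module

theorem kv12 : B ((1 / 16 : ℝ) • a (-1) + (1 / 8 - 4 * h.L) • a 0 + (1 / 16 : ℝ) • a 1 + (4 : ℝ) • h.s)
    ((1 / 16 : ℝ) • a (-2) + (1 / 8 - 4 * h.M) • a 0 + (1 / 16 : ℝ) • a 2 + (4 : ℝ) • h.p) =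
    -1/8 + 1/8*h.M + 63/16*h.L + 1/16*h.L3 - 4*h.M*h.L := by
  simp only [map_add, map_smul, LinearMap.add_apply, LinearMap.smul_apply, smul_eq_mul, h.gsa,
    h.gas, h.gsp, h.nrm, h.form1' (-1) (-2) (by norm_num), h.form3a, h.form3b,
    h.form1 1 2 (by norm_num), h.form1 (-1) 0 (by norm_num), h.form1' 1 0 (by norm_num),
    h.form2e 0 2 (by norm_num) (by norm_num), h.symm (a 0) (a (-2)),
    h.form2e (-2) 0 (by norm_num) (by norm_num), h.gap_odd 1 (by norm_num),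
    h.gap_odd (-1) (by norm_num), h.gap_even 0 (by norm_num)]
  ring

/-- the linear relation coming from the cross fusion rules -/
theorem relA : (5/4096 - 1/16*h.L) • a (-2) + (-1/112 + 9/224*h.M + 13/28*h.L - 40/7*h.L^2) • a (-1) + (835/14336 - 1/14*h.M - 1553/448*h.L - 1/64*h.L3 - 20/7*h.M*h.L + 288/7*h.L^2 + 2048/7*h.L^3) • a 0 + (-1/112 + 9/224*h.M + 13/28*h.L - 40/7*h.L^2) • a 1 + (5/4096 - 1/16*h.L) • a 2 + (-4/7 + 18/7*h.M + 208/7*h.L - 2560/7*h.L^2) • h.s + (5/64 - 4*h.L) • h.p = 0 := by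
  have f00 := fus00 h.amb (h.pair 0) (h.nrm 0) (a 1) (a 2)
  have f44 := fus44 h.amb (h.pair 0) (h.nrm 0) (a 1) (a 2)
  rw [h.uA, h.u2A] at f00
  rw [h.vA, h.v2A, h.kv12] at f44
  simp only [map_add, map_sub, map_smul, map_neg, LinearMap.add_apply, LinearMap.sub_apply,
    LinearMap.smul_apply, LinearMap.neg_apply, h.t_am4_am4, h.t_am4_am3, h.t_am4_am2, h.t_am3_am4, h.t_am3_am3, h.t_am3_am2, h.t_am3_am1, h.t_am2_am4, h.t_am2_am3, h.t_am2_am2, h.t_am2_am1, h.t_am2_a0, h.t_am1_am3, h.t_am1_am2, h.t_am1_am1, h.t_am1_a0, h.t_am1_a1, h.t_a0_am2, h.t_a0_am1, h.t_a0_a0, h.t_a0_a1, h.t_a0_a2, h.t_a1_am1, h.t_a1_a0, h.t_a1_a1, h.t_a1_a2, h.t_a1_a3, h.t_a2_a0, h.t_a2_a1, h.t_a2_a2, h.t_a2_a3, h.t_a2_a4, h.t_a3_a1, h.t_a3_a2, h.t_a3_a3, h.t_a3_a4, h.t_a4_a2, h.t_a4_a3, h.t_a4_a4, h.t_am3_s, h.t_s_am3, h.t_am2_s, h.t_s_am2, h.t_am1_s, h.t_s_am1, h.t_a0_s, h.t_s_a0, h.t_a1_s,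 h.t_s_a1, h.t_a2_s, h.t_s_a2, h.t_a3_s, h.t_s_a3, h.t_am2_p, h.t_p_am2, h.t_am1_q, h.t_q_am1, h.t_a0_p, h.t_p_a0, h.t_a1_q, h.t_q_a1, h.t_a2_p, h.t_p_a2, h.t_a1_p, h.t_am1_p, h.t_p_a1, h.t_p_am1,
    h.t_am1_a2, h.t_a2_am1, h.t_a1_am2, h.t_am2_a1, h.Z_eq, h.MN, h.a3_eq, h.am3_eq,
    smul_add, smul_smul] at f00 f44
  linear_combination (norm := module) f44 - f00

end DSys

end Cfsg.Agent.Lib.Helper4.Sak
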