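import Mathlib
import Cfsg.Agent.Lib.Helper4.Sak.Sak11

set_option autoImplicit false
set_option linter.unusedSectionVars false
set_option linter.unusedSimpArgs false
set_option maxHeartbeats 1600000

/-! Sakuma's theorem (Majorana setting): the inner products `(a 0, a n)`, `n ≤ 6`, and the two
polynomial relations between `λ₁` and `λ₂`. -/

namespace Cfsg.Agent.Lib.Helper4.Sak

open Cfsg.Axial Cfsg.Agent.H9Maj

variable {V : Type*} [AddCommGroup V] [Module ℝ V]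
  {mul : V →ₗ[ℝ] V →ₗ[ℝ] V} {B : LinearMap.BilinForm ℝ V}
  {a : ℤ → V} {τ : ℤ → (V ≃ₗ[ℝ] V)}

namespace DSys

variable (h : DSys mul B a τ)

theorem a4_eq : a 4 = (1 : ℝ) • a (-1) + (-6 + 256*h.L) • a 0 + (33/7 + 128/7*h.M - 2304/7*h.L + 32768/7*h.L^2) • a 1 + (-33/7 - 128/7*h.M + 2304/7*h.L - 32768/7*h.L^2) • a 2 + (6 - 256*h.L) • a 3 + (-32 : ℝ) • h.q + (32 : ℝ) • h.p := by
  have h1 := (h.shift 1).a3_eq
  rw [h.shift_L, h.shift_M, h.shift_p_odd 1 (by norm_num), h.shift_q_odd 1 (by norm_num)] at h1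
  simp only [Int.reduceAdd, Int.reduceNeg] at h1
  exact h1

theorem a5_eq : a 5 = (1 : ℝ) • a 0 + (-6 + 256*h.L) • a 1 + (33/7 + 128/7*h.M - 2304/7*h.L + 32768/7*h.L^2) • a 2 + (-33/7 - 128/7*h.M + 2304/7*h.L - 32768/7*h.L^2) • a 3 + (6 - 256*h.L) • a 4 + (-32 : ℝ) • h.p + (32 : ℝ) • h.q := by
  have h1 := (h.shift 2).a3_eq
  rw [h.shift_L, h.shift_M, h.shift_p_even 2 (by norm_num), h.shift_q_even 2 (by norm_num)] at h1
  simp only [Int.reduceAdd, Int.reduceNeg] at h1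
  exact h1

theorem a6_eq : a 6 = (1 : ℝ) • a 1 + (-6 + 256*h.L) • a 2 + (33/7 + 128/7*h.M - 2304/7*h.L + 32768/7*h.L^2) • a 3 + (-33/7 - 128/7*h.M + 2304/7*h.L - 32768/7*h.L^2) • a 4 + (6 - 256*h.L) • a 5 + (-32 : ℝ) • h.q + (32 : ℝ) • h.p := by
  have h1 := (h.shift 3).a3_eq
  rw [h.shift_L, h.shift_M, h.shift_p_odd 3 (by norm_num), h.shift_q_odd 3 (by norm_num)] at h1
  simp only [Int.reduceAdd, Int.reduceNeg] at h1
  exact h1

theorem E4_eq : h.E4 = h.L + (-6 + 256*h.L) + (33/7 + 128/7*h.M - 2304/7*h.L + 32768/7*h.L^2) * h.L - (33/7 + 128/7*h.M - 2304/7*h.L + 32768/7*h.L^2) * h.M + (6 - 256*h.L) * h.L3 - 32 * (15 / 16 * h.L + 1 / 32 * h.M - 1 / 32) + 32 * (31 / 32 * h.M - 1 / 32) := by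
  have e3 : B (a 0) (a 3) = h.L3 := rfl
  unfold E4
  rw [h.a4_eq]
  simp only [map_add, map_smul, smul_eq_mul, h.nrm, h.form1 0 1 (by norm_num),
    h.form1' 0 (-1) (by norm_num), h.form2e 0 2 (by norm_num) (by norm_num), e3,
    h.gap_even 0 (by norm_num), h.gaq_even 0 (by norm_num)]
  ring

theorem L5_eq : h.L5 = 1 + (-6 + 256*h.L) * h.L + (33/7 + 128/7*h.M - 2304/7*h.L + 32768/7*h.L^2) * h.M - (33/7 + 128/7*h.M - 2304/7*h.L + 32768/7*h.L^2) * h.L3 + (6 - 256*h.L) * h.E4 - 32 * (31 / 32 * h.M - 1 / 32) + 32 * (15 / 16 * h.L + 1 / 32 * h.M - 1 / 32) := by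
  have e3 : B (a 0) (a 3) = h.L3 := rfl
  have e4 : B (a 0) (a 4) = h.E4 := rfl
  unfold L5
  rw [h.a5_eq]
  simp only [map_add, map_smul, smul_eq_mul, h.nrm, h.form1 0 1 (by norm_num),
    h.form2e 0 2 (by norm_num) (by norm_num), e3, e4,
    h.gap_even 0 (by norm_num), h.gaq_even 0 (by norm_num)]
  ring

theorem E6_eq : h.E6 = h.L + (-6 + 256*h.L) * h.M + (33/7 + 128/7*h.M - 2304/7*h.L + 32768/7*h.L^2) * h.L3 - (33/7 + 128/7*h.M - 2304/7*h.L + 32768/7*h.L^2) * h.E4 + (6 - 256*h.L) * h.L5 - 32 * (15 / 16 * h.L + 1 / 32 * h.M - 1 / 32) + 32 * (31 / 32 * h.M - 1 / 32) := by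
  have e3 : B (a 0) (a 3) = h.L3 := rfl
  have e4 : B (a 0) (a 4) = h.E4 := rfl
  have e5 : B (a 0) (a 5) = h.L5 := rfl
  unfold E6
  rw [h.a6_eq]
  simp only [map_add, map_smul, smul_eq_mul, h.nrm, h.form1 0 1 (by norm_num),
    h.form2e 0 2 (by norm_num) (by norm_num), e3, e4, e5,
    h.gap_even 0 (by norm_num), h.gaq_even 0 (by norm_num)]
  ring

/-- pairing the linear relation with `a (-1)` -/
theorem rel1 : (5/4096 - 1/16*h.L) * h.L + (-1/112 + 9/224*h.M + 13/28*h.L - 40/7*h.L^2) + (835/14336 - 1/14*h.M - 1553/448*h.L - 1/64*h.L3 - 20/7*h.M*h.L + 288/7*h.L^2 + 2048/7*h.L^3) * h.L + (-1/112 + 9/224*h.M + 13/28*h.L - 40/7*h.L^2) * h.M + (5/4096 - 1/16*h.L) * h.L3 + (-4/7 + 18/7*h.M + 208/7*h.L - 2560/7*h.L^2) * (31 / 32 * h.L - 1 / 32) + (5/64 - 4*h.L) * (15 / 16 * h.L + 1 / 32 * h.M - 1 / 32) = 0 := by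
  have h1 := congrArg (B (a (-1))) h.relA
  simp only [map_add, map_smul, map_zero, smul_eq_mul, h.nrm, h.form1' (-1) (-2) (by norm_num),
    h.form1 (-1) 0 (by norm_num), h.form2o (-1) 1 (by norm_num) (by norm_num), h.MN, h.form3a,
    h.gas, h.gap_odd (-1) (by norm_num)] at h1
  linarith

/-- pairing the linear relation with `a (-2)` -/
theorem rel2 : (5/4096 - 1/16*h.L) + (-1/112 + 9/224*h.M + 13/28*h.L - 40/7*h.L^2) * h.L + (835/14336 - 1/14*h.M - 1553/448*h.L - 1/64*h.L3 - 20/7*h.M*h.L + 288/7*h.L^2 + 2048/7*h.L^3) * h.M + (-1/112 + 9/224*h.M + 13/28*h.L - 40/7*h.L^2) * h.L3 + (5/4096 - 1/16*h.L) * h.E4 + (-4/7 + 18/7*h.M + 208/7*h.L - 2560/7*h.L^2) * (31 / 32 * h.L - 1 / 32) + (5/64 - 4*h.L) * (31 / 32 * h.M - 1 / 32) = 0 := by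
  have h1 := congrArg (B (a (-2))) h.relA
  simp only [map_add, map_smul, map_zero, smul_eq_mul, h.nrm, h.form1 (-2) (-1) (by norm_num),
    h.form2e (-2) 0 (by norm_num) (by norm_num), h.form3b', h.form4,
    h.gas, h.gap_even (-2) (by norm_num)] at h1
  linarith

end DSys

end Cfsg.Agent.Lib.Helper4.Sak
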