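import Mathlib
import Cfsg.Agent.Lib.Helper4.Sak.Sak12

set_option autoImplicit false
set_option linter.unusedSectionVars false
set_option linter.unusedSimpArgs false
set_option maxHeartbeats 1600000

/-! Sakuma's theorem (Majorana setting): solving the two polynomial relations, conclusion. -/

namespace Cfsg.Agent.Lib.Helper4.Sak

open Cfsg.Axial Cfsg.Agent.H9Maj

/-- the common zeros of the two relations -/
theorem sak_alg (L M : ℝ)
    (h1 : 351/28672 - 1503/28672*M - 675/448*L + 1251/448*M*L + 9/224*M^2 + 405/7*L^2 + 90/7*M*L^2 - 5112/7*L^3 + 4608/7*L^4 = 0)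
    (h2 : 351/200704 + 41697/200704*M - 297/224*L - 18945/1568*M*L - 657/3136*M^2 + 135*L^2 + 7632/49*M*L^2 - 414/49*M^2*L - 229752/49*L^3 - 115200/49*M*L^3 + 2691072/49*L^4 - 2359296/49*L^5 = 0) :
    L = 1 ∨ (L = 1/8 ∧ M = 1) ∨ (L = 0 ∧ M = 1) ∨ (L = 13/256 ∧ M = 13/256) ∨
      (L = 1/64 ∧ (M = 1/64 ∨ M = 1/8)) ∨ (L = 1/32 ∧ M = 0) ∨ (L = 3/128 ∧ M = 3/128) ∨
      (L = 5/256 ∧ M = 13/256) := by
  have hres : (L-1)*((L-1/8)*(L*((L-13/256)*((L-1/64)^2*((L-1/32)*((L-3/128)*(L-5/256))))))) = 0 := by
    linear_combination (-169/1477743627730944 - 949/69269232549888*M + 375715/207807697649664*L - 37951/16234976378880*M*L - 124429/541165879296*L^2 + 12331/126835752960*M*L^2 + 576001/63417876480*L^3 + 1367/198180864*M*L^3 - 75611/495452160*L^4 + 23/7741440*M*L^4 + 113/43008*L^5 + 1/15120*L^6) * h1 + (169/211106232532992 - 13/4947802324992*M + 7849/14843406974976*L - 397/1159641169920*M*L - 33293/463856467968*L^2 + 49/1509949440*M*L^2 + 1329/671088640*L^3 + 1/70778880*M*L^3 + 2149/141557760*L^4 + 1/1105920*L^5) * h2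
  rcases mul_eq_zero.1 hres with h | hres
  · left; linarith
  rcases mul_eq_zero.1 hres with h | hres
  · right; left
    obtain rfl : L = 1/8 := by linarith
    refine ⟨rfl, ?_⟩
    linear_combination (28672/11115 : ℝ) * h1 + (8192/100035 : ℝ) * h2
  rcases mul_eq_zero.1 hres with h | hres
  · right; right; left
    subst h
    refine ⟨rfl, ?_⟩
    linear_combination (-2093056/26325 : ℝ) * h1 + (-401408/26325 : ℝ) * h2
  rcases mul_eq_zero.1 hres with h | hres
  · right; right; right; left
    obtain rfl : L = 13/256 := by linarith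
    refine ⟨rfl, ?_⟩
    linear_combination (2916352/300105 : ℝ) * h1 + (917504/1500525 : ℝ) * h2
  rcases mul_eq_zero.1 hres with h | hres
  · right; right; right; right; left
    have h' := pow_eq_zero_iff (n := 2) (by norm_num) |>.1 h
    obtain rfl : L = 1/64 := by linarith
    refine ⟨rfl, ?_⟩
    have hq : (M - 1/64) * (M - 1/8) = 0 := by linear_combination (224/9 : ℝ) * h1
    rcases mul_eq_zero.1 hq with h | h
    · left; linarith
    · right; linarith
  rcases mul_eq_zero.1 hres with h | hres
  · right; right; right; right; right; left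
    obtain rfl : L = 1/32 := by linarith
    refine ⟨rfl, ?_⟩
    linear_combination (315392/12555 : ℝ) * h1 + (401408/188325 : ℝ) * h2
  rcases mul_eq_zero.1 hres with h | h
  · right; right; right; right; right; right; left
    obtain rfl : L = 3/128 := by linarith
    refine ⟨rfl, ?_⟩
    linear_combination (290816/5265 : ℝ) * h1 + (28672/5265 : ℝ) * h2
  · right; right; right; right; right; right; right
    obtain rfl : L = 5/256 := by linarith
    refine ⟨rfl, ?_⟩
    linear_combination (6651904/56475 : ℝ) * h1 + (6422528/508275 : ℝ) * h2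

end Cfsg.Agent.Lib.Helper4.Sak
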