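import Mathlib
import Cfsg.Agent.Lib.Helper4.Sak.Sak3

set_option autoImplicit false
set_option linter.unusedSectionVars false

/-! Sakuma's theorem (Majorana setting): construction of the dihedral system from two Majorana
pairs, and the reduction of the order statement to `a n = a 0`. -/

namespace Cfsg.Agent.Lib.Helper4.Sak

open Cfsg.Axial Cfsg.Agent.H9Maj

variable {V : Type*} [AddCommGroup V] [Module ℝ V]
  {mul : V →ₗ[ℝ] V →ₗ[ℝ] V} {B : LinearMap.BilinForm ℝ V}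

/-- automorphisms of the product and the form -/
def autGrp (mul : V →ₗ[ℝ] V →ₗ[ℝ] V) (B : LinearMap.BilinForm ℝ V) : Subgroup (V ≃ₗ[ℝ] V) where
  carrier := {σ | (∀ u v : V, σ (mul u v) = mul (σ u) (σ v)) ∧ ∀ u v : V, B (σ u) (σ v) = B u v}
  mul_mem' := by
    rintro σ σ' ⟨h1, h2⟩ ⟨h1', h2'⟩
    refine ⟨fun u v => ?_, fun u v => ?_⟩
    · show σ (σ' (mul u v)) = mul (σ (σ' u)) (σ (σ' v))
      rw [h1', h1]
    · show B (σ (σ' u)) (σ (σ' v)) = B u v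
      rw [h2, h2']
  one_mem' := ⟨fun _ _ => rfl, fun _ _ => rfl⟩
  inv_mem' := by
    rintro σ ⟨h1, h2⟩
    have e : ∀ u : V, σ⁻¹ u = σ.symm u := fun _ => rfl
    refine ⟨fun u v => ?_, fun u v => ?_⟩
    · apply σ.injective
      rw [h1, e, e, e, LinearEquiv.apply_symm_apply, LinearEquiv.apply_symm_apply,
        LinearEquiv.apply_symm_apply]
    · rw [← h2, e, e, LinearEquiv.apply_symm_apply, LinearEquiv.apply_symm_apply]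

theorem pair_mem_autGrp {μ : V ≃ₗ[ℝ] V} {a : V} (h : IsMajoranaPair mul B μ a) :
    μ ∈ autGrp mul B := ⟨h.1, h.2.1⟩

theorem pair_mul_self {μ : V ≃ₗ[ℝ] V} {a : V} (h : IsMajoranaPair mul B μ a) : μ * μ = 1 := by
  ext w; exact mu_mu h w

section construct

variable (hV : IsMajoranaAmbient mul B) {μ₀ μ₁ : V ≃ₗ[ℝ] V} {a₀ a₁ : V}
  (h₀ : IsMajoranaPair mul B μ₀ a₀) (h₁ : IsMajoranaPair mul B μ₁ a₁)
  (hn₀ : B a₀ a₀ = 1) (hn₁ : B a₁ a₁ = 1)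

/-- the axes -/
noncomputable def axA (μ₀ μ₁ : V ≃ₗ[ℝ] V) (a₀ a₁ : V) (i : ℤ) : V :=
  ((μ₁ * μ₀) ^ (i / 2)) (if i % 2 = 0 then a₀ else a₁)

/-- the involutions -/
noncomputable def axT (μ₀ μ₁ : V ≃ₗ[ℝ] V) (i : ℤ) : V ≃ₗ[ℝ] V :=
  (μ₁ * μ₀) ^ (i / 2) * (if i % 2 = 0 then μ₀ else μ₁) * ((μ₁ * μ₀) ^ (i / 2))⁻¹

theorem axA_even (μ₀ μ₁ : V ≃ₗ[ℝ] V) (a₀ a₁ : V) (k : ℤ) :
    axA μ₀ μ₁ a₀ a₁ (2 * k) = ((μ₁ * μ₀) ^ k) a₀ := by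
  unfold axA
  have e1 : 2 * k / 2 = k := by omega
  have e2 : 2 * k % 2 = 0 := by omega
  rw [e1, e2, if_pos rfl]

theorem axA_odd (μ₀ μ₁ : V ≃ₗ[ℝ] V) (a₀ a₁ : V) (k : ℤ) :
    axA μ₀ μ₁ a₀ a₁ (2 * k + 1) = ((μ₁ * μ₀) ^ k) a₁ := by
  unfold axA
  have e1 : (2 * k + 1) / 2 = k := by omega
  have e2 : (2 * k + 1) % 2 = 1 := by omega
  rw [e1, e2, if_neg (by norm_num)]

theorem axT_even (μ₀ μ₁ : V ≃ₗ[ℝ] V) (k : ℤ) :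
    axT μ₀ μ₁ (2 * k) = (μ₁ * μ₀) ^ k * μ₀ * ((μ₁ * μ₀) ^ k)⁻¹ := by
  unfold axT
  have e1 : 2 * k / 2 = k := by omega
  have e2 : 2 * k % 2 = 0 := by omega
  rw [e1, e2, if_pos rfl]

theorem axT_odd (μ₀ μ₁ : V ≃ₗ[ℝ] V) (k : ℤ) :
    axT μ₀ μ₁ (2 * k + 1) = (μ₁ * μ₀) ^ k * μ₁ * ((μ₁ * μ₀) ^ k)⁻¹ := by
  unfold axT
  have e1 : (2 * k + 1) / 2 = k := by omega
  have e2 : (2 * k + 1) % 2 = 1 := by omega
  rw [e1, e2, if_neg (by norm_num)]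

include h₀ h₁ in
theorem semiconj0 (k : ℤ) : μ₀ * (μ₁ * μ₀) ^ k = (μ₁ * μ₀) ^ (-k) * μ₀ := by
  have e0 := pair_mul_self h₀
  have e1 := pair_mul_self h₁
  have hinv : (μ₁ * μ₀)⁻¹ = μ₀ * μ₁ := by
    rw [inv_eq_iff_mul_eq_one]
    rw [mul_assoc, ← mul_assoc μ₀ μ₀ μ₁, e0, one_mul, e1]
  have hs : SemiconjBy μ₀ (μ₁ * μ₀) (μ₁ * μ₀)⁻¹ := by
    unfold SemiconjBy
    rw [hinv, mul_assoc]
  have := (hs.zpow_right k).eq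
  rw [this, inv_zpow, zpow_neg]

include h₀ h₁ in
theorem semiconj1 (k : ℤ) : μ₁ * (μ₁ * μ₀) ^ k = (μ₁ * μ₀) ^ (-k) * μ₁ := by
  have e0 := pair_mul_self h₀
  have e1 := pair_mul_self h₁
  have hinv : (μ₁ * μ₀)⁻¹ = μ₀ * μ₁ := by
    rw [inv_eq_iff_mul_eq_one]
    rw [mul_assoc, ← mul_assoc μ₀ μ₀ μ₁, e0, one_mul, e1]
  have hs : SemiconjBy μ₁ (μ₁ * μ₀) (μ₁ * μ₀)⁻¹ := by
    unfold SemiconjBy
    rw [hinv, ← mul_assoc, e1, one_mul, mul_assoc, e1, mul_one]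
  have := (hs.zpow_right k).eq
  rw [this, inv_zpow, zpow_neg]

include h₀ h₁ in
theorem inv_rho : (μ₁ * μ₀)⁻¹ = μ₀ * μ₁ := by
  have e0 := pair_mul_self h₀
  have e1 := pair_mul_self h₁
  rw [inv_eq_iff_mul_eq_one, mul_assoc, ← mul_assoc μ₀ μ₀ μ₁, e0, one_mul, e1]

include h₀ h₁ in
theorem conjE (k l : ℤ) :
    (μ₁ * μ₀) ^ k * μ₀ * ((μ₁ * μ₀) ^ k)⁻¹ * (μ₁ * μ₀) ^ l = (μ₁ * μ₀) ^ (2 * k - l) * μ₀ := by
  have e1 : ((μ₁ * μ₀) ^ k)⁻¹ * (μ₁ * μ₀) ^ l = (μ₁ * μ₀) ^ (l - k) := by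
    rw [← zpow_neg, ← zpow_add]; congr 1; ring
  rw [mul_assoc, e1, mul_assoc, semiconj0 h₀ h₁ (l - k), ← mul_assoc, ← zpow_add]
  congr 2; ring

include h₀ h₁ in
theorem conjO (k l : ℤ) :
    (μ₁ * μ₀) ^ k * μ₁ * ((μ₁ * μ₀) ^ k)⁻¹ * (μ₁ * μ₀) ^ l = (μ₁ * μ₀) ^ (2 * k - l) * μ₁ := by
  have e1 : ((μ₁ * μ₀) ^ k)⁻¹ * (μ₁ * μ₀) ^ l = (μ₁ * μ₀) ^ (l - k) := by
    rw [← zpow_neg, ← zpow_add]; congr 1; ring
  rw [mul_assoc, e1, mul_assoc, semiconj1 h₀ h₁ (l - k), ← mul_assoc, ← zpow_add]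
  congr 2; ring

include hV h₀ h₁ hn₀ hn₁ in
theorem dsys_axA : DSys mul B (axA μ₀ μ₁ a₀ a₁) (axT μ₀ μ₁) := by
  have hρ : (μ₁ * μ₀) ∈ autGrp mul B :=
    (autGrp mul B).mul_mem (pair_mem_autGrp h₁) (pair_mem_autGrp h₀)
  have hf0 : μ₀ a₀ = a₀ := mu_axis hV h₀ hn₀
  have hf1 : μ₁ a₁ = a₁ := mu_axis hV h₁ hn₁
  have h01 : μ₀ a₁ = ((μ₁ * μ₀) ^ (-1 : ℤ)) a₁ := by
    rw [zpow_neg, zpow_one, inv_rho h₀ h₁, LinearEquiv.mul_apply, hf1]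
  have h10 : μ₁ a₀ = ((μ₁ * μ₀) ^ (1 : ℤ)) a₀ := by
    rw [zpow_one, LinearEquiv.mul_apply, hf0]
  refine ⟨hV, fun i => ?_, fun i => ?_, fun i j => ?_⟩
  · have hk := (autGrp mul B).zpow_mem hρ (i / 2)
    unfold axA axT
    split_ifs with hi
    · exact transport _ hk.1 hk.2 h₀
    · exact transport _ hk.1 hk.2 h₁
  · have hk := (autGrp mul B).zpow_mem hρ (i / 2)
    unfold axA
    rw [hk.2]
    split_ifs <;> assumption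
  · rcases Int.even_or_odd' i with ⟨k, rfl | rfl⟩ <;>
      rcases Int.even_or_odd' j with ⟨l, rfl | rfl⟩
    · rw [axT_even, axA_even, ← LinearEquiv.mul_apply, conjE h₀ h₁, LinearEquiv.mul_apply, hf0,
        show 2 * (2 * k) - 2 * l = 2 * (2 * k - l) by ring, axA_even]
    · rw [axT_even, axA_odd, ← LinearEquiv.mul_apply, conjE h₀ h₁, LinearEquiv.mul_apply, h01,
        ← LinearEquiv.mul_apply, ← zpow_add,
        show 2 * (2 * k) - (2 * l + 1) = 2 * (2 * k - l + -1) + 1 by ring, axA_odd]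
    · rw [axT_odd, axA_even, ← LinearEquiv.mul_apply, conjO h₀ h₁, LinearEquiv.mul_apply, h10,
        ← LinearEquiv.mul_apply, ← zpow_add,
        show 2 * (2 * k + 1) - 2 * l = 2 * (2 * k - l + 1) by ring, axA_even]
    · rw [axT_odd, axA_odd, ← LinearEquiv.mul_apply, conjO h₀ h₁, LinearEquiv.mul_apply, hf1,
        show 2 * (2 * k + 1) - (2 * l + 1) = 2 * (2 * k - l) + 1 by ring, axA_odd]

theorem axA_zero (μ₀ μ₁ : V ≃ₗ[ℝ] V) (a₀ a₁ : V) : axA μ₀ μ₁ a₀ a₁ 0 = a₀ := by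
  have := axA_even μ₀ μ₁ a₀ a₁ 0
  simpa using this

theorem axA_one (μ₀ μ₁ : V ≃ₗ[ℝ] V) (a₀ a₁ : V) : axA μ₀ μ₁ a₀ a₁ 1 = a₁ := by
  have := axA_odd μ₀ μ₁ a₀ a₁ 0
  simpa using this

include hV h₀ h₁ hn₀ hn₁ in
/-- if the `n`-th axis coincides with the `0`-th one then `(μ₀ μ₁)^n = 1`. -/
theorem pow_eq_one_of_axis (n : ℕ) (hax : axA μ₀ μ₁ a₀ a₁ (n : ℤ) = axA μ₀ μ₁ a₀ a₁ 0) :
    (μ₀ * μ₁) ^ n = 1 := by
  have hD := dsys_axA hV h₀ h₁ hn₀ hn₁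
  have hT : axT μ₀ μ₁ (n : ℤ) = μ₀ := by
    have h1 := hD.pair (n : ℤ)
    rw [hax, axA_zero] at h1
    exact mu_unique h1 h₀
  have key : (μ₁ * μ₀) ^ (n : ℤ) = 1 := by
    rcases Int.even_or_odd' (n : ℤ) with ⟨k, hk | hk⟩
    · rw [hk, axT_even] at hT
      have h2 := conjE h₀ h₁ k 0
      rw [zpow_zero, mul_one, hT, sub_zero] at h2
      rw [hk]
      exact mul_right_cancel (b := μ₀) (by rw [one_mul]; exact h2.symm)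
    · rw [hk, axT_odd] at hT
      have h2 := conjO h₀ h₁ k 0
      rw [zpow_zero, mul_one, hT, sub_zero] at h2
      -- μ₀ = ρ^(2k) μ₁
      have h3 : (μ₁ * μ₀) ^ (2 * k) = μ₀ * μ₁ := by
        have e1 := pair_mul_self h₁
        calc (μ₁ * μ₀) ^ (2 * k) = (μ₁ * μ₀) ^ (2 * k) * μ₁ * μ₁ := by rw [mul_assoc, e1, mul_one]
          _ = μ₀ * μ₁ := by rw [← h2]
      rw [hk, zpow_add, zpow_one, h3, ← inv_rho h₀ h₁, inv_mul_cancel]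
  rw [← inv_rho h₀ h₁, inv_pow, ← zpow_natCast, key, inv_one]

end construct

end Cfsg.Agent.Lib.Helper4.Sak
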