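import Mathlib
import Cfsg.Agent.Lib.Helper4.Sak.Sak13
import Cfsg.Agent.Lib.Helper4.Sak.Sak4

set_option autoImplicit false
set_option linter.unusedSectionVars false
set_option linter.unusedSimpArgs false
set_option maxHeartbeats 1600000

/-! Sakuma's theorem (Majorana setting): conclusion. -/

namespace Cfsg.Agent.Lib.Helper4.Sak

open Cfsg.Axial Cfsg.Agent.H9Maj

variable {V : Type*} [AddCommGroup V] [Module ℝ V]
  {mul : V →ₗ[ℝ] V →ₗ[ℝ] V} {B : LinearMap.BilinForm ℝ V}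
  {a : ℤ → V} {τ : ℤ → (V ≃ₗ[ℝ] V)}

namespace DSys

variable (h : DSys mul B a τ)

theorem F1_eq : 351/28672 - 1503/28672*h.M - 675/448*h.L + 1251/448*h.M*h.L + 9/224*h.M^2 + 405/7*h.L^2 + 90/7*h.M*h.L^2 - 5112/7*h.L^3 + 4608/7*h.L^4 = 0 := by
  have h1 := h.rel1
  rw [h.L3_eq] at h1
  linear_combination h1

theorem F2_eq : 351/200704 + 41697/200704*h.M - 297/224*h.L - 18945/1568*h.M*h.L - 657/3136*h.M^2 + 135*h.L^2 + 7632/49*h.M*h.L^2 - 414/49*h.M^2*h.L - 229752/49*h.L^3 - 115200/49*h.M*h.L^3 + 2691072/49*h.L^4 - 2359296/49*h.L^5 = 0 := by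
  have h1 := h.rel2
  rw [h.E4_eq, h.L3_eq] at h1
  linear_combination h1

include h in
/-- one of the first six axes after `a 0` coincides with `a 0` (inner product form). -/
theorem sakuma_core : ∃ n : ℕ, 1 ≤ n ∧ n ≤ 6 ∧ B (a 0) (a (n : ℤ)) = 1 := by
  have e1 : B (a 0) (a 1) = h.L := rfl
  have e2 : B (a 0) (a 2) = h.M := rfl
  have e3 : B (a 0) (a 3) = h.L3 := rfl
  have e4 : B (a 0) (a 4) = h.E4 := rfl
  have e5 : B (a 0) (a 5) = h.L5 := rfl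
  have e6 : B (a 0) (a 6) = h.E6 := rfl
  have k3 := h.L3_eq
  have k4 := h.E4_eq
  have k5 := h.L5_eq
  have k6 := h.E6_eq
  rcases sak_alg h.L h.M h.F1_eq h.F2_eq with hL | ⟨hL, hM⟩ | ⟨hL, hM⟩ | ⟨hL, hM⟩ | ⟨hL, hM | hM⟩ |
    ⟨hL, hM⟩ | ⟨hL, hM⟩ | ⟨hL, hM⟩
  · exact ⟨1, le_refl _, by norm_num, by rw [Nat.cast_one, e1, hL]⟩
  · exact ⟨2, by norm_num, by norm_num, by rw [Nat.cast_ofNat, e2, hM]⟩
  · exact ⟨2, by norm_num, by norm_num, by rw [Nat.cast_ofNat, e2, hM]⟩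
  · refine ⟨3, by norm_num, by norm_num, ?_⟩
    rw [Nat.cast_ofNat, e3, k3, hL, hM]; norm_num
  · refine ⟨3, by norm_num, by norm_num, ?_⟩
    rw [Nat.cast_ofNat, e3, k3, hL, hM]; norm_num
  · refine ⟨4, by norm_num, by norm_num, ?_⟩
    rw [Nat.cast_ofNat, e4, k4, k3, hL, hM]; norm_num
  · refine ⟨4, by norm_num, by norm_num, ?_⟩
    rw [Nat.cast_ofNat, e4, k4, k3, hL, hM]; norm_num
  · refine ⟨5, by norm_num, by norm_num, ?_⟩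
    rw [Nat.cast_ofNat, e5, k5, k4, k3, hL, hM]; norm_num
  · refine ⟨6, by norm_num, by norm_num, ?_⟩
    rw [Nat.cast_ofNat, e6, k6, k5, k4, k3, hL, hM]; norm_num

end DSys

/-- Sakuma's theorem: the product of two Majorana involutions has order at most `6`. -/
theorem sakuma (hV : IsMajoranaAmbient mul B) {μ₀ μ₁ : V ≃ₗ[ℝ] V} {a₀ a₁ : V}
    (h₀ : IsMajoranaPair mul B μ₀ a₀) (h₁ : IsMajoranaPair mul B μ₁ a₁)
    (hn₀ : B a₀ a₀ = 1) (hn₁ : B a₁ a₁ = 1) :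
    ∃ n : ℕ, 1 ≤ n ∧ n ≤ 6 ∧ (μ₀ * μ₁) ^ n = 1 := by
  have hD := dsys_axA hV h₀ h₁ hn₀ hn₁
  obtain ⟨n, hn1, hn6, hB⟩ := hD.sakuma_core
  refine ⟨n, hn1, hn6, ?_⟩
  apply pow_eq_one_of_axis hV h₀ h₁ hn₀ hn₁ n
  exact (eq_of_inner_one hV (hD.nrm 0) (hD.nrm n) hB).symm

end Cfsg.Agent.Lib.Helper4.Sak
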